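/-
A prime dividing the index of a subfield group: consequences for the orders of the field sizes.
-/
import Cfsg.Agent.Lib.Geo.InvolutionSubfield

set_option autoImplicit false
set_option maxHeartbeats 800000
set_option linter.unusedSectionVars false
set_option linter.style.haveILetI false

namespace CfsgLib.Geo.SubfieldPrime

open Finset

theorem sub_pow_factor {q₀ k : ℕ} (h0 : 0 < q₀) (n i : ℕ) (hi : i < n) :
    (q₀ ^ (k + 1)) ^ n - (q₀ ^ (k + 1)) ^ i =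
      (q₀ ^ n - q₀ ^ i) * (q₀ ^ (i * k) * ∑ l ∈ range (k + 1), (q₀ ^ (n - i)) ^ l) := by
  obtain ⟨j, rfl⟩ : ∃ j, n = i + j := ⟨n - i, by omega⟩
  rw [Nat.add_sub_cancel_left]
  have hg : (q₀ ^ j) ^ (k + 1) - 1 = (q₀ ^ j - 1) * ∑ l ∈ range (k + 1), (q₀ ^ j) ^ l := by
    have h1 : 1 ≤ q₀ ^ j := Nat.one_le_pow _ _ h0
    have := geom_sum_mul_add (q₀ ^ j - 1) (k + 1)
    rw [Nat.sub_add_cancel h1] at this
    rw [← this, Nat.add_sub_cancel, mul_comm]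
  rw [show q₀ ^ (i + j) - q₀ ^ i = q₀ ^ i * (q₀ ^ j - 1) by rw [Nat.mul_sub, mul_one, pow_add],
    show (q₀ ^ (k + 1)) ^ (i + j) = (q₀ ^ (k + 1)) ^ i * (q₀ ^ j) ^ (k + 1) by
      rw [pow_add, ← pow_mul q₀ (k + 1) j, ← pow_mul q₀ j, mul_comm (k + 1) j],
    ← Nat.mul_sub_one, hg, ← pow_mul, show (k + 1) * i = i + i * k by ring, pow_add]
  ring

variable {F : Type*} [Field F] [Fintype F]

/-- The exponent `j` coming from a prime in the index. -/
theorem exists_exponent {n : ℕ} (F₀ : Subfield F) {k q₀ r : ℕ} [Fact r.Prime] (hk : k.Prime)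
    (hF₀ : Nat.card ↥F₀ = q₀) (hcard : Fintype.card F = q₀ ^ k) (hrk : r ≠ k) (hr0 : ¬ r ∣ q₀) (hn : 2 ≤ n)
    (hΩ : r ∣ ((Cfsg.Geo.subfieldSubgroup F₀ 1).comap
      (Matrix.SpecialLinearGroup.toGL : Matrix.SpecialLinearGroup (Fin n) F →* GL (Fin n) F)).index) :
    ∃ j, 2 ≤ j ∧ j ≤ n ∧ (q₀ : ZMod r) ^ (k * j) = 1 ∧ (q₀ : ZMod r) ^ j ≠ 1 := by
  classical
  haveI : Fintype F₀ := Fintype.ofFinite _
  obtain ⟨m, rfl⟩ : ∃ m, n = m + 1 := ⟨n - 1, by omega⟩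
  obtain ⟨k', rfl⟩ : ∃ k', k = k' + 1 := ⟨k - 1, by have := hk.pos; omega⟩
  set ι : Matrix.SpecialLinearGroup (Fin (m + 1)) F₀ →* Matrix.SpecialLinearGroup (Fin (m + 1)) F :=
    Matrix.SpecialLinearGroup.map (F₀.subtype : F₀ →+* F)
  have hle : ι.range ≤ (Cfsg.Geo.subfieldSubgroup F₀ 1).comap Matrix.SpecialLinearGroup.toGL := by
    rintro _ ⟨A, rfl⟩
    refine CfsgLib.Geo.SubfieldMax.mem_subfieldSubgroup_one one_ne_zero fun i j => ?_
    rw [div_one]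
    exact (A.1 i j).2
  have hinj : Function.Injective ι := fun A B h => Subtype.ext (Matrix.map_injective
    (Subtype.val_injective) (congrArg Subtype.val h))
  have hidx := Subgroup.card_mul_index ι.range
  rw [Nat.card_congr (MonoidHom.ofInjective hinj).toEquiv.symm] at hidx
  have hdvd : r ∣ ι.range.index := hΩ.trans (Subgroup.index_dvd_of_le hle)
  have hq₀' : Fintype.card ↥F₀ = q₀ := by rw [← hF₀, Nat.card_eq_fintype_card]
  have hq1 : 1 < q₀ := by rw [← hF₀]; exact Finite.one_lt_card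
  set S : Fin (m + 1) → ℕ := fun i =>
    q₀ ^ ((i : ℕ) * k') * ∑ l ∈ range (k' + 1), (q₀ ^ (m + 1 - i)) ^ l with hS
  have h1 := CfsgLib.Geo.InvClass.card_SL_mul (F := F) (n := m + 1) (Nat.succ_pos m)
  have h0 := CfsgLib.Geo.InvClass.card_SL_mul (F := F₀) (n := m + 1) (Nat.succ_pos m)
  rw [Matrix.card_GL_field] at h1 h0
  rw [hcard, Finset.prod_congr rfl (fun i _ => sub_pow_factor (by omega) (m + 1) i.1 i.2), Finset.prod_mul_distrib] at h1
  rw [hq₀'] at h0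
  rw [← h0, ← hidx] at h1
  have hS1 := sub_pow_factor (q₀ := q₀) (k := k') (by omega) 1 0 one_pos
  simp only [pow_one, pow_zero, zero_mul, one_mul, Nat.sub_zero] at hS1
  rw [hS1] at h1
  have hpos : 0 < Nat.card (Matrix.SpecialLinearGroup (Fin (m + 1)) F₀) * (q₀ - 1) :=
    Nat.mul_pos Nat.card_pos (by omega)
  have h2 : ι.range.index * ∑ l ∈ range (k' + 1), q₀ ^ l = ∏ i, S i :=
    Nat.eq_of_mul_eq_mul_left hpos (by rw [hS, ← h1]; ring)
  rw [Fin.prod_univ_castSucc] at h2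
  have hlast : S (Fin.last m) = q₀ ^ (m * k') * ∑ l ∈ range (k' + 1), q₀ ^ l := by
    simp [hS, show m + 1 - m = 1 by omega]
  rw [hlast, ← mul_assoc] at h2
  have h3 := Nat.eq_of_mul_eq_mul_right (Finset.sum_pos (fun l _ => pow_pos (by omega) l) ⟨0, by simp⟩) h2
  have hrp : r.Prime := Fact.out
  rw [h3] at hdvd
  rcases hrp.dvd_mul.1 hdvd with h | h
  swap
  · exact absurd (hrp.dvd_of_dvd_pow h) hr0
  obtain ⟨i, -, hi⟩ := (Prime.dvd_finsetProd_iff hrp.prime _).1 h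
  obtain ⟨j, hj⟩ : ∃ j, j = m + 1 - ((Fin.castSucc i : Fin (m + 1)) : ℕ) := ⟨_, rfl⟩
  have hi' : r ∣ ∑ l ∈ range (k' + 1), (q₀ ^ j) ^ l := by
    rcases hrp.dvd_mul.1 hi with h | h
    · exact absurd (hrp.dvd_of_dvd_pow h) hr0
    · rw [hj]; exact h
  rw [← ZMod.natCast_eq_zero_iff, Nat.cast_sum] at hi'
  simp only [Nat.cast_pow] at hi'
  have h4 := geom_sum_mul ((q₀ : ZMod r) ^ j) (k' + 1)
  rw [hi', zero_mul, eq_comm, sub_eq_zero, ← pow_mul, mul_comm j] at h4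
  refine ⟨j, by rw [hj, Fin.val_castSucc]; have := i.2; omega, by omega, h4, fun h5 => ?_⟩
  simp only [h5, one_pow, Finset.sum_const, Finset.card_range, nsmul_eq_mul, mul_one] at hi'
  exact hrk ((Nat.prime_dvd_prime_iff_eq hrp hk).1 ((ZMod.natCast_eq_zero_iff _ _).1 hi'))

/-- The order of `q₀` is `k` times the order of `q`. -/
theorem order_data {n k q₀ r : ℕ} [Fact r.Prime] (hk : k.Prime) {j : ℕ} (hj2 : 2 ≤ j) (hjn : j ≤ n)
    (h1 : (q₀ : ZMod r) ^ (k * j) = 1) (h2 : (q₀ : ZMod r) ^ j ≠ 1) :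
    k ∣ orderOf (q₀ : ZMod r) ∧ 0 < orderOf ((q₀ : ZMod r) ^ k) ∧
      orderOf (q₀ : ZMod r) = k * orderOf ((q₀ : ZMod r) ^ k) ∧ orderOf ((q₀ : ZMod r) ^ k) ≤ n := by
  have hd := orderOf_dvd_of_pow_eq_one h1
  have hki : k ∣ orderOf (q₀ : ZMod r) := by
    by_contra hc
    exact h2 (orderOf_dvd_iff_pow_eq_one.1 ((Nat.Coprime.symm (hk.coprime_iff_not_dvd.2 hc)).dvd_of_dvd_mul_left hd))
  have hpow := orderOf_pow_of_dvd hk.ne_zero hki
  have h3 : orderOf ((q₀ : ZMod r) ^ k) ∣ j := orderOf_dvd_of_pow_eq_one (by rw [← pow_mul]; exact h1)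
  exact ⟨hki, Nat.pos_of_dvd_of_pos h3 (by omega), by rw [hpow, Nat.mul_div_cancel' hki],
    (Nat.le_of_dvd (by omega) h3).trans hjn⟩

end CfsgLib.Geo.SubfieldPrime
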