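/-
Elements of prime order that are not conjugate into a subfield group.
-/
import Cfsg.Agent.Lib.Geo.ImprimPrime.Linear
import Cfsg.Agent.Lib.Geo.SubfieldMaximal
import Cfsg.Agent.Lib.Classical.Dickson.SubgroupFacts

set_option autoImplicit false
set_option maxHeartbeats 800000
set_option linter.unusedSectionVars false
set_option linter.style.haveILetI false

namespace CfsgLib.Geo.SubfieldPrime

open Module Matrix Polynomial CfsgLib.Geo.PrimeAct

variable {F : Type*} [Field F] [Fintype F] {n : ℕ} {r : ℕ} [Fact r.Prime]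

theorem exists_scaled_of_mem (F₀ : Subfield F) {X : GL (Fin n) F} (h : X ∈ Cfsg.Geo.subfieldSubgroup F₀ 1) :
    ∃ (A : Matrix (Fin n) (Fin n) F₀) (s : F), s ≠ 0 ∧ (X : Matrix (Fin n) (Fin n) F) = s • A.map F₀.subtype := by
  obtain ⟨g', hg', he⟩ := h
  obtain ⟨_, ⟨A₀, rfl⟩, c, hc, rfl⟩ := Subgroup.mem_sup_of_normal_right.1 hg'
  obtain ⟨s, hs⟩ := (Cfsg.Geo.mem_scalars_iff c).1 hc
  refine ⟨(A₀ : Matrix (Fin n) (Fin n) F₀), s, s.ne_zero, ?_⟩
  have he' : Matrix.GeneralLinearGroup.map (F₀.subtype : F₀ →+* F) A₀ * c = X := by simpa using he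
  rw [← he', Units.val_mul, hs, Matrix.mul_smul, Matrix.mul_one]
  rfl

theorem map_smul_val (F₀ : Subfield F) (c : F₀) (A : Matrix (Fin n) (Fin n) F₀) :
    (c • A).map F₀.subtype = (c : F) • A.map F₀.subtype := by
  ext i j
  simp

theorem exists_root_subfield (F₀ : Subfield F) {q₀ : ℕ} (hF₀ : Nat.card ↥F₀ = q₀) (hr : (q₀ : ZMod r) ≠ 1)
    (ν : F₀) : ∃ ρ : F₀, ρ ^ r = ν := by
  classical
  haveI : Fintype F₀ := Fintype.ofFinite _
  by_cases h0 : ν = 0
  · exact ⟨0, by rw [h0, zero_pow (Fact.out : r.Prime).ne_zero]⟩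
  have hcop : Nat.Coprime (q₀ - 1) r := by
    refine Nat.Coprime.symm ((Fact.out : r.Prime).coprime_iff_not_dvd.2 fun h => hr ?_)
    have h1 : 1 ≤ q₀ := hF₀ ▸ Nat.card_pos
    rw [← ZMod.natCast_eq_zero_iff, Nat.cast_sub h1, Nat.cast_one, sub_eq_zero] at h
    exact h
  have hq : Nat.card F₀ˣ = q₀ - 1 := by rw [Nat.card_units, hF₀]
  obtain ⟨u, hu⟩ := (powCoprime (G := F₀ˣ) (by rw [hq]; exact hcop)).surjective (Units.mk0 ν h0)
  exact ⟨(u : F₀), by rw [← Units.val_pow_eq_pow_val, show u ^ r = Units.mk0 ν h0 from hu, Units.val_mk0]⟩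

/-- A conjugate in the subfield group comes from a matrix over the subfield whose `r`-th power is one. -/
theorem exists_subfield_model (F₀ : Subfield F) {q₀ : ℕ} (hF₀ : Nat.card ↥F₀ = q₀) (hr : (q₀ : ZMod r) ≠ 1)
    (hn : 0 < n) (x P : Matrix.SpecialLinearGroup (Fin n) F) {w : F} (hw : w ≠ 0)
    (hx : (x : Matrix (Fin n) (Fin n) F) ^ r = (w ^ r) • (1 : Matrix (Fin n) (Fin n) F))
    (hP : P⁻¹ * x * P ∈ (Cfsg.Geo.subfieldSubgroup F₀ 1).comap Matrix.SpecialLinearGroup.toGL) :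
    ∃ (B : Matrix (Fin n) (Fin n) F₀) (l : F), l ^ r = w ^ r ∧ B ^ r = 1 ∧
      (P : Matrix (Fin n) (Fin n) F) * (l • B.map F₀.subtype) = (x : Matrix (Fin n) (Fin n) F) * P := by
  classical
  obtain ⟨A, s, hs, he⟩ := exists_scaled_of_mem F₀ hP
  have he' : (((P⁻¹ * x * P : Matrix.SpecialLinearGroup (Fin n) F)) : Matrix (Fin n) (Fin n) F) = s • A.map F₀.subtype := he
  have hconj : (P : Matrix (Fin n) (Fin n) F) * (s • A.map F₀.subtype) = (x : Matrix (Fin n) (Fin n) F) * P := by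
    rw [← he', ← Matrix.SpecialLinearGroup.coe_mul, ← Matrix.SpecialLinearGroup.coe_mul]
    congr 1
    rw [← mul_assoc, ← mul_assoc, mul_inv_cancel, one_mul]
  have hpow : (A ^ r).map F₀.subtype = (w / s) ^ r • (1 : Matrix (Fin n) (Fin n) F) := by
    have h1 : (((P⁻¹ * x * P) ^ r : Matrix.SpecialLinearGroup (Fin n) F) : Matrix (Fin n) (Fin n) F) =
        w ^ r • (1 : Matrix (Fin n) (Fin n) F) := by
      have e : ∀ m : ℕ, (P⁻¹ * x * P) ^ m = P⁻¹ * x ^ m * P := fun m => by
        induction m with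
        | zero => simp
        | succ m ih => rw [pow_succ, ih, pow_succ]; simp [mul_assoc]
      rw [e r, Matrix.SpecialLinearGroup.coe_mul, Matrix.SpecialLinearGroup.coe_mul, Matrix.SpecialLinearGroup.coe_pow x,
        hx, Matrix.mul_smul, Matrix.mul_one, Matrix.smul_mul, ← Matrix.SpecialLinearGroup.coe_mul, inv_mul_cancel,
        Matrix.SpecialLinearGroup.coe_one]
    rw [Matrix.SpecialLinearGroup.coe_pow, he', _root_.smul_pow, ← Matrix.map_pow] at h1
    rw [div_pow, ← inv_smul_smul₀ (pow_ne_zero r hs) ((A ^ r).map F₀.subtype), h1, smul_smul, div_eq_inv_mul]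
  set ν : F₀ := (A ^ r) ⟨0, hn⟩ ⟨0, hn⟩
  have hν : (ν : F) = (w / s) ^ r := by
    have := congrFun (congrFun hpow ⟨0, hn⟩) ⟨0, hn⟩
    simpa [ν] using this
  obtain ⟨ρ, hρ⟩ := exists_root_subfield F₀ hF₀ hr ν
  have hρ0 : ρ ≠ 0 := by
    intro h
    rw [h, zero_pow (Fact.out : r.Prime).ne_zero] at hρ
    rw [← hρ, ZeroMemClass.coe_zero] at hν
    exact pow_ne_zero r (div_ne_zero hw hs) hν.symm
  have hinv : ((ρ⁻¹ : F₀) : F) = (ρ : F)⁻¹ := map_inv₀ F₀.subtype ρ
  refine ⟨ρ⁻¹ • A, s * ρ, ?_, ?_, ?_⟩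
  · rw [mul_pow, ← SubmonoidClass.coe_pow, hρ, hν, ← mul_pow, mul_div_cancel₀ _ hs]
  · apply Matrix.map_injective (f := F₀.subtype) Subtype.val_injective
    show ((ρ⁻¹ • A) ^ r).map F₀.subtype = (1 : Matrix (Fin n) (Fin n) F₀).map F₀.subtype
    rw [_root_.smul_pow, map_smul_val, hpow, SubmonoidClass.coe_pow, hinv,
      Matrix.map_one _ (map_zero _) (map_one _), smul_smul, ← mul_pow]
    have : ((ρ : F)⁻¹ * (w / s)) ^ r = 1 := by
      rw [mul_pow, inv_pow, ← SubmonoidClass.coe_pow, hρ, hν, inv_mul_cancel₀ (pow_ne_zero r (div_ne_zero hw hs))]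
    rw [this, one_smul]
  · rw [← hconj]
    congr 1
    rw [map_smul_val, smul_smul, hinv,
      mul_assoc, mul_inv_cancel₀ (fun h => hρ0 (Subtype.ext h)), mul_one]

/-- Fixed spaces over the subfield and the field have the same dimension. -/
theorem finrank_fix_map (F₀ : Subfield F) {p : ℕ} [Fact p.Prime] [CharP F p] (hrp : r ≠ p)
    (B : Matrix (Fin n) (Fin n) F₀) (hB : B ^ r = 1) :
    finrank F (fixSp (Matrix.toLin' (B.map F₀.subtype))) = finrank F₀ (fixSp (Matrix.toLin' B)) := by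
  classical
  have hrF : (r : F) ≠ 0 := natCast_ne_zero_of_ringChar (p := p) Fact.out hrp
  have hrF₀ : (r : F₀) ≠ 0 := fun h => hrF (by simpa using congrArg F₀.subtype h)
  have hg₀ : Matrix.toLin' B ^ r = 1 := by
    show (Matrix.toLinAlgEquiv' B) ^ r = 1
    rw [← map_pow, hB, map_one]
  have hg : Matrix.toLin' (B.map F₀.subtype) ^ r = 1 := by
    show (Matrix.toLinAlgEquiv' (B.map F₀.subtype)) ^ r = 1
    rw [← map_pow, ← Matrix.map_pow, hB, Matrix.map_one _ (map_zero _) (map_one _), map_one]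
  let ι : (Fin n → F₀) →+ (Fin n → F) :=
    { toFun := fun v i => (v i : F), map_zero' := rfl, map_add' := fun _ _ => rfl }
  have hcomm : ∀ v, Matrix.toLin' (B.map F₀.subtype) (ι v) = ι (Matrix.toLin' B v) := fun v => by
    funext i
    simp [ι, Matrix.toLin'_apply, Matrix.mulVec, dotProduct]
  have hpow : ∀ (k : ℕ) v, (Matrix.toLin' (B.map F₀.subtype) ^ k) (ι v) = ι ((Matrix.toLin' B ^ k) v) := fun k => by
    induction k with
    | zero => exact fun v => rfl
    | succ k ih => intro v; rw [pow_succ', pow_succ', Module.End.mul_apply, Module.End.mul_apply, ih, hcomm]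
  have hdim : ∀ (W : Submodule F₀ (Fin n → F₀)) (W' : Submodule F (Fin n → F)), (∀ v ∈ W, ι v ∈ W') →
      finrank F₀ W ≤ finrank F W' := fun W W' h => by
    let b := Module.finBasis F₀ W
    have hli : LinearIndependent F fun j => ι (b j : Fin n → F₀) := by
      rw [Fintype.linearIndependent_iff]
      intro c hc j
      rw [← Module.forall_dual_apply_eq_zero_iff F₀ (c j)]
      intro φ
      have h0 : ∑ l, φ (c l) • (b l : Fin n → F₀) = 0 := by
        funext i
        have h1 := congrArg φ (congrFun hc i)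
        rw [Finset.sum_apply, map_sum, Pi.zero_apply, map_zero] at h1
        rw [Finset.sum_apply, Pi.zero_apply, ← h1]
        refine Finset.sum_congr rfl fun l _ => ?_
        rw [Pi.smul_apply, Pi.smul_apply, smul_eq_mul, smul_eq_mul,
          show c l * ι (b l : Fin n → F₀) i = ((b l : Fin n → F₀) i) • c l from mul_comm _ _, map_smul, smul_eq_mul,
          mul_comm]
      exact Fintype.linearIndependent_iff.1 (b.linearIndependent.map' W.subtype (Submodule.ker_subtype _))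
        (fun l => φ (c l)) h0 j
    calc finrank F₀ W = finrank F (Submodule.span F (Set.range fun j => ι (b j : Fin n → F₀))) := by
          rw [finrank_span_eq_card hli, Fintype.card_fin]
      _ ≤ finrank F W' := Submodule.finrank_mono (Submodule.span_le.2 (by rintro _ ⟨j, rfl⟩; exact h _ (b j).2))
  have h1 := hdim _ (fixSp (Matrix.toLin' (B.map F₀.subtype))) fun v hv => mem_fixSp.2 (by rw [hcomm, mem_fixSp.1 hv])
  have h2 := hdim (restSp r (Matrix.toLin' B)) (restSp r (Matrix.toLin' (B.map F₀.subtype))) fun v hv => by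
    have h0 : orbitSum r (Matrix.toLin' B) v = 0 := hv
    show orbitSum r (Matrix.toLin' (B.map F₀.subtype)) (ι v) = 0
    rw [orbitSum, LinearMap.sum_apply, Finset.sum_congr rfl fun k _ => hpow k v, ← map_sum, ← LinearMap.sum_apply]
    exact (congrArg ι h0).trans (map_zero ι)
  have e1 := (CfsgLib.Geo.ImprimPrime.sup_fix_rest hg hrF).1
  have e2 := (CfsgLib.Geo.ImprimPrime.sup_fix_rest hg₀ hrF₀).1
  rw [finrank_pi, Fintype.card_fin] at e1 e2
  omega

/-- A single irreducible block of dimension at least two. -/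
theorem exists_derangement_block (F₀ : Subfield F) {p k q₀ : ℕ} [Fact p.Prime] [CharP F p] (hrp : r ≠ p)
    (hk : 1 < k) (hF₀ : Nat.card ↥F₀ = q₀) (hord : orderOf (q₀ : ZMod r) = k * orderOf (Nat.card F : ZMod r))
    (hi : 2 ≤ orderOf (Nat.card F : ZMod r)) (hin : orderOf (Nat.card F : ZMod r) ≤ n) :
    ∃ x : Matrix.SpecialLinearGroup (Fin n) F,
      (∃ z : F, ((x ^ r : Matrix.SpecialLinearGroup (Fin n) F) : Matrix (Fin n) (Fin n) F) = z • 1) ∧
      (∀ z : F, (x : Matrix (Fin n) (Fin n) F) ≠ z • 1) ∧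
      ∀ P : Matrix.SpecialLinearGroup (Fin n) F,
        P⁻¹ * x * P ∉ (Cfsg.Geo.subfieldSubgroup F₀ 1).comap Matrix.SpecialLinearGroup.toGL := by
  classical
  have hrF : (r : F) ≠ 0 := natCast_ne_zero_of_ringChar (p := p) Fact.out hrp
  obtain ⟨x, hxr, hns, hg, hfix⟩ := CfsgLib.Geo.ImprimPrime.exists_linear_witness (n := n) hrF (by omega) (by omega)
    Nat.one_pos (by rw [one_mul]; exact hin)
  rw [one_mul] at hfix
  refine ⟨x, ⟨1, hxr⟩, hns, fun P hP => ?_⟩
  have hr1 : (q₀ : ZMod r) ≠ 1 := fun h => by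
    rw [h, orderOf_one] at hord
    have h2 : 2 ≤ k * orderOf (Nat.card F : ZMod r) := Nat.le_trans (by omega : 2 ≤ k * 1) (Nat.mul_le_mul_left k (by omega))
    omega
  obtain ⟨B, l, hl, hB, hconj⟩ := exists_subfield_model F₀ hF₀ hr1 (by omega) x P one_ne_zero
    (by rw [← Matrix.SpecialLinearGroup.coe_pow, hxr, one_pow]) hP
  rw [one_pow] at hl
  obtain rfl : l = 1 := CfsgLib.Geo.ImprimPrime.eq_one_of_pow_eq_one (by omega) hl
  rw [one_smul] at hconj
  set T := Matrix.toLin' (B.map F₀.subtype)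
  let e : (Fin n → F) ≃ₗ[F] (Fin n → F) := Matrix.SpecialLinearGroup.toLin' P
  have he : ∀ v, e v = (P : Matrix (Fin n) (Fin n) F) *ᵥ v := fun v => rfl
  have hconj' : ∀ v, Matrix.toLin' (x : Matrix (Fin n) (Fin n) F) (e v) = e (T v) := fun v => by
    rw [he, he, Matrix.toLin'_apply, Matrix.toLin'_apply, Matrix.mulVec_mulVec, Matrix.mulVec_mulVec, hconj]
  have hmap : (fixSp T).map e.toLinearMap = fixSp (Matrix.toLin' (x : Matrix (Fin n) (Fin n) F)) := by
    ext v
    obtain ⟨v, rfl⟩ := e.surjective v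
    rw [Submodule.mem_map_equiv, LinearEquiv.symm_apply_apply, mem_fixSp, mem_fixSp, hconj', e.injective.eq_iff]
  have hfix' : finrank F (fixSp T) + orderOf (Nat.card F : ZMod r) = n := by
    rw [← LinearEquiv.finrank_map_eq e, hmap]; exact hfix
  rw [finrank_fix_map F₀ hrp B hB] at hfix'
  have hg₀ : Matrix.toLin' B ^ r = 1 := by
    show (Matrix.toLinAlgEquiv' B) ^ r = 1
    rw [← map_pow, hB, map_one]
  have hrF₀ : (r : F₀) ≠ 0 := fun h => hrF (by simpa using congrArg F₀.subtype h)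
  have hd := orderOf_dvd_finrank_inf_rest hg₀ hrF₀ ⊤ fun _ _ => Submodule.mem_top
  have hs := (CfsgLib.Geo.ImprimPrime.sup_fix_rest hg₀ hrF₀).1
  rw [top_inf_eq, hF₀, hord] at hd
  rw [finrank_pi, Fintype.card_fin] at hs
  rw [show finrank F₀ (restSp r (Matrix.toLin' B)) = orderOf (Nat.card F : ZMod r) by omega] at hd
  have h3 := Nat.le_of_dvd (by omega) hd
  have h4 : 2 * orderOf (Nat.card F : ZMod r) ≤ k * orderOf (Nat.card F : ZMod r) := Nat.mul_le_mul_right _ hk
  omega

theorem zmod_sub_val {ζ : F} (hζ : ζ ^ r = 1) (y z : ZMod r) : ζ ^ (y - z).val * ζ ^ z.val = ζ ^ y.val := by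
  haveI : NeZero r := ⟨(Fact.out : r.Prime).ne_zero⟩
  rw [← pow_add, pow_eq_pow_mod _ hζ, ← ZMod.val_add, sub_add_cancel]

/-- A conjugate of a diagonal element in the subfield group makes the exponents invariant under an affine map. -/
theorem exists_affine_symm (F₀ : Subfield F) {p q₀ : ℕ} [Fact p.Prime] [CharP F p] (hF₀ : Nat.card ↥F₀ = q₀)
    (hr : (q₀ : ZMod r) ≠ 1) (hq₀ : (q₀ : ZMod r) ≠ 0) (hn : 0 < n) {w ζ : F} (hw : w ≠ 0) (hζ : orderOf ζ = r)
    (a : Fin n → ZMod r) (x : Matrix.SpecialLinearGroup (Fin n) F)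
    (hx : (x : Matrix (Fin n) (Fin n) F) = Matrix.diagonal fun i => w * ζ ^ (a i).val)
    (P : Matrix.SpecialLinearGroup (Fin n) F)
    (hP : P⁻¹ * x * P ∈ (Cfsg.Geo.subfieldSubgroup F₀ 1).comap Matrix.SpecialLinearGroup.toGL) :
    ∃ u : ZMod r, ∀ y, (Finset.univ.filter fun i => a i = (q₀ : ZMod r) * (y - u) + u).card =
      (Finset.univ.filter fun i => a i = y).card := by
  classical
  haveI : NeZero r := ⟨(Fact.out : r.Prime).ne_zero⟩
  haveI : NeZero (orderOf ζ) := ⟨by rw [hζ]; exact (Fact.out : r.Prime).ne_zero⟩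
  have hζr : ζ ^ r = 1 := by rw [← hζ, pow_orderOf_eq_one]
  have hζ0 : ζ ≠ 0 := fun h => by rw [h, zero_pow (Fact.out : r.Prime).ne_zero] at hζr; exact zero_ne_one hζr
  have hxr : (x : Matrix (Fin n) (Fin n) F) ^ r = w ^ r • (1 : Matrix (Fin n) (Fin n) F) := by
    rw [hx, Matrix.diagonal_pow, Matrix.smul_one_eq_diagonal]
    congr 1
    funext i
    rw [Pi.pow_apply, mul_pow, ← pow_mul, mul_comm (a i).val, pow_mul, hζr, one_pow, mul_one]
  obtain ⟨B, l, hl, -, hconj⟩ := exists_subfield_model F₀ hF₀ hr hn x P hw hxr hP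
  obtain ⟨i, hi, hiu⟩ := (IsPrimitiveRoot.orderOf ζ).eq_pow_of_pow_eq_one (ξ := l / w)
    (by rw [hζ, div_pow, hl, div_self (pow_ne_zero r hw)])
  obtain ⟨u, hu⟩ : ∃ u : ZMod r, l = w * ζ ^ u.val :=
    ⟨(i : ZMod r), by rw [ZMod.val_natCast, ← pow_eq_pow_mod _ hζr, hiu, mul_div_cancel₀ _ hw]⟩
  refine ⟨u, ?_⟩
  have hl0 : l ≠ 0 := by rw [hu]; exact mul_ne_zero hw (pow_ne_zero _ hζ0)
  set D : Matrix (Fin n) (Fin n) F := Matrix.diagonal fun i => ζ ^ (a i - u).val
  have hD : (x : Matrix (Fin n) (Fin n) F) = l • D := by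
    rw [hx, ← Matrix.diagonal_smul]
    congr 1
    funext i
    rw [Pi.smul_apply, smul_eq_mul, hu, mul_assoc, mul_comm (ζ ^ u.val), zmod_sub_val hζr]
  have hDP : (P : Matrix (Fin n) (Fin n) F) * B.map F₀.subtype = D * P := by
    rw [hD, Matrix.mul_smul, Matrix.smul_mul] at hconj
    exact smul_right_injective _ hl0 hconj
  let U : (Matrix (Fin n) (Fin n) F)ˣ := (Matrix.SpecialLinearGroup.toGL P : GL (Fin n) F)
  have hcp : D.charpoly = B.charpoly.map F₀.subtype := by
    rw [← Matrix.charpoly_map, ← Matrix.charpoly_units_conj U (B.map F₀.subtype)]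
    congr 1
    rw [← Matrix.coe_units_inv]
    show D = (P : Matrix (Fin n) (Fin n) F) * B.map F₀.subtype * (U⁻¹).val
    rw [hDP, mul_assoc, show (P : Matrix (Fin n) (Fin n) F) = U.val from rfl, Units.mul_inv, mul_one]
  obtain ⟨e₀, -, he₀⟩ : ∃ e₀ : ℕ+, Nat.Prime p ∧ Nat.card F₀ = p ^ (e₀ : ℕ) := by
    haveI : CharP F₀ p := (F₀.subtype).charP Subtype.val_injective p
    haveI : Fintype F₀ := Fintype.ofFinite _
    rw [Nat.card_eq_fintype_card]
    exact FiniteField.card F₀ p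
  let φ := iterateFrobenius F p (e₀ : ℕ)
  have hφ : ∀ y : F, φ y = y ^ q₀ := fun y => by
    show iterateFrobenius F p (e₀ : ℕ) y = _
    rw [iterateFrobenius_def, ← he₀, hF₀]
  have hfixφ : φ.comp F₀.subtype = F₀.subtype := RingHom.ext fun y => by
    rw [RingHom.comp_apply, hφ, ← hF₀]
    exact CfsgLib.Classical.Dickson.mem_subfield_iff_pow.1 y.2
  have hroots : (Multiset.map (fun i => (ζ ^ (a i - u).val) ^ q₀) Finset.univ.val) =
      Multiset.map (fun i => ζ ^ (a i - u).val) Finset.univ.val := by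
    have h1 : D.charpoly.map φ = D.charpoly := by rw [hcp, Polynomial.map_map, hfixφ]
    rw [Matrix.charpoly_diagonal, Polynomial.map_prod] at h1
    simp only [Polynomial.map_sub, Polynomial.map_X, Polynomial.map_C, hφ] at h1
    have h2 := congrArg Polynomial.roots h1
    rw [Finset.prod_eq_multiset_prod, Finset.prod_eq_multiset_prod,
      show (fun i => Polynomial.X - Polynomial.C ((ζ ^ (a i - u).val) ^ q₀)) =
        (fun c => Polynomial.X - Polynomial.C c) ∘ fun i => (ζ ^ (a i - u).val) ^ q₀ from rfl,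
      show (fun i => Polynomial.X - Polynomial.C (ζ ^ (a i - u).val)) =
        (fun c => Polynomial.X - Polynomial.C c) ∘ fun i => ζ ^ (a i - u).val from rfl,
      ← Multiset.map_map (fun c => Polynomial.X - Polynomial.C c) (fun i => (ζ ^ (a i - u).val) ^ q₀),
      ← Multiset.map_map (fun c => Polynomial.X - Polynomial.C c) (fun i => ζ ^ (a i - u).val)] at h2
    rwa [Polynomial.roots_multiset_prod_X_sub_C, Polynomial.roots_multiset_prod_X_sub_C] at h2
  have hexp : ∀ y : ZMod r, (ζ ^ y.val) ^ q₀ = ζ ^ ((q₀ : ZMod r) * y).val := fun y => by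
    rw [← pow_mul, pow_eq_pow_mod _ hζr]
    congr 1
    rw [← ZMod.val_natCast, Nat.cast_mul, ZMod.natCast_zmod_val, mul_comm]
  have hinj : Function.Injective fun y : ZMod r => ζ ^ y.val := fun y z h => ZMod.val_injective r
    (pow_injOn_Iio_orderOf (x := ζ) (by rw [hζ]; exact ZMod.val_lt y) (by rw [hζ]; exact ZMod.val_lt z) h)
  simp only [hexp] at hroots
  rw [show (fun i => ζ ^ ((q₀ : ZMod r) * (a i - u)).val) =
      (fun y : ZMod r => ζ ^ y.val) ∘ fun i => (q₀ : ZMod r) * (a i - u) from rfl,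
    show (fun i => ζ ^ (a i - u).val) = (fun y : ZMod r => ζ ^ y.val) ∘ fun i => a i - u from rfl,
    ← Multiset.map_map (fun y : ZMod r => ζ ^ y.val) (fun i => (q₀ : ZMod r) * (a i - u)),
    ← Multiset.map_map (fun y : ZMod r => ζ ^ y.val) (fun i => a i - u)] at hroots
  have hM := Multiset.map_injective hinj hroots
  intro y
  have h := congrArg (Multiset.count ((q₀ : ZMod r) * (y - u))) hM
  rw [Multiset.count_map, Multiset.count_map] at h
  simp only [mul_right_inj' hq₀, sub_left_inj] at h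
  have e1 : ∀ z : ZMod r, (Finset.univ.filter fun i => a i = z).card =
      Multiset.card (Multiset.filter (fun i => z = a i) Finset.univ.val) := fun z => by
    rw [Finset.card_def, Finset.filter_val]
    congr 1
    exact Multiset.filter_congr fun i _ => eq_comm
  rw [e1, e1, h]
  congr 1
  exact Multiset.filter_congr fun i _ => by rw [eq_sub_iff_add_eq]

end CfsgLib.Geo.SubfieldPrime
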