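/-
Bases in which a map of prime order has its coefficients in a subfield.
-/
import Cfsg.Agent.Lib.Geo.ImprimPrime.Dec
import Cfsg.Agent.Lib.Classical.Dickson.SubgroupFacts

set_option autoImplicit false
set_option maxHeartbeats 800000
set_option linter.unusedSectionVars false
set_option linter.style.haveILetI false

namespace CfsgLib.Geo.SubfieldPrime

open Module Polynomial CfsgLib.Geo.PrimeAct

variable {F : Type*} [Field F] [Finite F] {V : Type*} [AddCommGroup V] [Module F V] [FiniteDimensional F V]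
variable {r : ℕ} [Fact r.Prime] {g : V →ₗ[F] V}

/-- Fewer than `ord q` powers of a fixed-point-free map give independent vectors. -/
theorem li_powers (hg : g ^ r = 1) (hfree : ∀ v, g v = v → v = 0) {w : V} (hw : w ≠ 0) :
    ∀ d, d ≤ orderOf (Nat.card F : ZMod r) → LinearIndependent F fun k : Fin d => (g ^ (k : ℕ)) w := by
  intro d
  induction d with
  | zero => exact fun _ => linearIndependent_empty_type
  | succ d ih =>
    intro hd
    have hli := ih (by omega)
    rw [linearIndependent_fin_succ']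
    refine ⟨hli, fun hmem => ?_⟩
    set S := Submodule.span F (Set.range fun k : Fin d => (g ^ (k : ℕ)) w)
    have hmem' : (g ^ d) w ∈ S := by
      have hr' : (Fin.init fun k : Fin (d + 1) => (g ^ (k : ℕ)) w) = fun k : Fin d => (g ^ (k : ℕ)) w := rfl
      rw [hr', Fin.val_last] at hmem
      exact hmem
    rcases Nat.eq_zero_or_pos d with rfl | hd0
    · simp [S, Set.range_eq_empty] at hmem'
      exact hw hmem'
    have hS : ∀ v ∈ S, g v ∈ S := by
      show S ≤ S.comap g
      rw [Submodule.span_le]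
      rintro _ ⟨k, rfl⟩
      show g ((g ^ (k : ℕ)) w) ∈ S
      rw [← Module.End.mul_apply, ← pow_succ']
      rcases Nat.lt_or_ge ((k : ℕ) + 1) d with h | h
      · exact Submodule.subset_span ⟨⟨_, h⟩, rfl⟩
      · rw [show (k : ℕ) + 1 = d by have := k.2; omega]; exact hmem'
    have hdvd := orderOf_dvd_finrank (g.restrict hS) (restrict_pow_eq_one g hg hS)
      fun v hv => Subtype.ext (hfree v (congrArg Subtype.val hv))
    rw [finrank_span_eq_card hli, Fintype.card_fin] at hdvd
    have := Nat.le_of_dvd hd0 hdvd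
    omega

/-- In a cyclic irreducible space the coefficients of the top power lie in the subfield. -/
theorem coeff_mem (hg : g ^ r = 1) (hfree : ∀ v, g v = v → v = 0) (p : ℕ) [Fact p.Prime] [CharP F p] (hrp : r ≠ p)
    (F₀ : Subfield F) (hq : (Nat.card ↥F₀ : ZMod r) = (Nat.card F : ZMod r))
    (hdim : finrank F V = orderOf (Nat.card F : ZMod r)) {w : V} (hw : w ≠ 0)
    (c : Fin (orderOf (Nat.card F : ZMod r)) → F)
    (hc : (g ^ orderOf (Nat.card F : ZMod r)) w = ∑ k, c k • (g ^ (k : ℕ)) w) : ∀ k, c k ∈ F₀ := by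
  classical
  haveI := Fintype.ofFinite F
  haveI : Fintype F₀ := Fintype.ofFinite _
  revert c hc
  set i := orderOf (Nat.card F : ZMod r) with hi
  intro c hc
  have hli := li_powers hg hfree hw i le_rfl
  set Q : F[X] := ∑ k : Fin i, C (c k) * X ^ (k : ℕ) with hQ
  have hQv : ∀ (h : V →ₗ[F] V) v, aeval h Q v = ∑ k : Fin i, c k • (h ^ (k : ℕ)) v := fun h v => by
    rw [hQ, map_sum, LinearMap.sum_apply]
    refine Finset.sum_congr rfl fun k _ => ?_
    rw [map_mul, aeval_C, map_pow, aeval_X, Module.End.mul_apply, Module.algebraMap_end_apply]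
  have hgQ : g ^ i = aeval g Q := by
    have hpos : 0 < i := hdim ▸ Module.finrank_pos_iff_exists_ne_zero.2 ⟨w, hw⟩
    haveI : Nonempty (Fin i) := ⟨⟨0, hpos⟩⟩
    refine (basisOfLinearIndependentOfCardEqFinrank hli (by rw [Fintype.card_fin, hdim])).ext fun k => ?_
    rw [coe_basisOfLinearIndependentOfCardEqFinrank]
    have hcomm : Commute (aeval g Q) (g ^ (k : ℕ)) := by
      have := (Commute.all Q (X ^ (k : ℕ))).map (aeval g)
      rwa [map_pow, aeval_X] at this
    show (g ^ i) ((g ^ (k : ℕ)) w) = aeval g Q ((g ^ (k : ℕ)) w)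
    rw [← Module.End.mul_apply, ← Module.End.mul_apply, hcomm.eq, ← pow_add, add_comm i, pow_add,
      Module.End.mul_apply, Module.End.mul_apply, hc, hQv]
  obtain ⟨e₀, he₀p, he₀⟩ : ∃ e₀ : ℕ+, Nat.Prime p ∧ Fintype.card F₀ = p ^ (e₀ : ℕ) := by
    haveI : CharP F₀ p := (F₀.subtype).charP Subtype.val_injective p
    exact FiniteField.card F₀ p
  obtain ⟨e, -, he⟩ := FiniteField.card F p
  have key : ∀ m : ℕ, (g ^ p ^ m) ^ i = aeval (g ^ p ^ m) (∑ k : Fin i, C (c k ^ p ^ m) * X ^ (k : ℕ)) := by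
    intro m
    have h1 : (g ^ p ^ m) ^ i = (aeval g Q) ^ p ^ m := by rw [← hgQ, ← pow_mul, ← pow_mul, mul_comm]
    rw [h1, ← map_pow, hQ, sum_pow_char_pow, map_sum, map_sum]
    refine Finset.sum_congr rfl fun k _ => ?_
    rw [mul_pow, map_mul, map_mul, map_pow (aeval g), map_pow (aeval g), map_pow (aeval g), aeval_C, aeval_X, aeval_C,
      map_pow (aeval (g ^ p ^ m)), aeval_X, ← map_pow (algebraMap F (V →ₗ[F] V)), ← pow_mul, ← pow_mul,
      mul_comm (p ^ m)]
  have hpow : g ^ p ^ (e₀ : ℕ) = g ^ p ^ (e : ℕ) := by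
    rw [pow_eq_pow_mod (p ^ (e₀ : ℕ)) hg, pow_eq_pow_mod (p ^ (e : ℕ)) hg]
    congr 1
    refine (ZMod.natCast_eq_natCast_iff' _ _ _).1 ?_
    rw [← he₀, ← he, ← Nat.card_eq_fintype_card, ← Nat.card_eq_fintype_card]
    exact hq
  set h := g ^ p ^ (e : ℕ) with hh
  have hhr : h ^ r = 1 := by rw [hh, ← pow_mul, mul_comm, pow_mul, hg, one_pow]
  have hrpr : r.Prime := Fact.out
  have hhfree : ∀ v, h v = v → v = 0 := fun v hv => by
    obtain ⟨a, ha⟩ : ∃ a, (p ^ (e : ℕ) * a) % r = 1 % r := by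
      obtain ⟨a, ha⟩ : ∃ a : ℕ, ((p ^ (e : ℕ) * a : ℕ) : ZMod r) = ((1 : ℕ) : ZMod r) := by
        refine ⟨((p ^ (e : ℕ) : ℕ) : ZMod r)⁻¹.val, ?_⟩
        rw [Nat.cast_mul, ZMod.natCast_val, ZMod.cast_id, Nat.cast_one, mul_inv_cancel₀]
        rw [Nat.cast_pow]
        exact pow_ne_zero _ fun h => hrp ((Nat.prime_dvd_prime_iff_eq hrpr Fact.out).1 ((ZMod.natCast_eq_zero_iff _ _).1 h))
      exact ⟨a, (ZMod.natCast_eq_natCast_iff' _ _ _).1 ha⟩
    refine hfree v ?_
    have h2 := pow_apply_fixed hv a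
    rwa [hh, ← pow_mul, pow_eq_pow_mod _ hg, ha, Nat.mod_eq_of_lt hrpr.one_lt, pow_one] at h2
  have hli' := li_powers hhr hhfree hw i le_rfl
  have e1 := LinearMap.congr_fun (key e₀) w
  have e2 := LinearMap.congr_fun (key e) w
  rw [hpow] at e1
  have hev : ∀ d : Fin i → F, aeval h (∑ k : Fin i, C (d k) * X ^ (k : ℕ)) w = ∑ k : Fin i, d k • (h ^ (k : ℕ)) w :=
    fun d => by
      rw [map_sum, LinearMap.sum_apply]
      exact Finset.sum_congr rfl fun k _ => by
        rw [map_mul, aeval_C, map_pow, aeval_X, Module.End.mul_apply, Module.algebraMap_end_apply]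
  rw [hev] at e1 e2
  intro k
  have h3 := Fintype.linearIndependent_iff.1 hli' (fun k => c k ^ p ^ (e₀ : ℕ) - c k ^ p ^ (e : ℕ)) (by
    simp only [sub_smul, Finset.sum_sub_distrib]
    rw [← e1, ← e2, sub_self]) k
  rw [sub_eq_zero, ← he₀, ← he, FiniteField.pow_card] at h3
  exact CfsgLib.Classical.Dickson.mem_subfield_iff_pow.2 (by rw [Nat.card_eq_fintype_card]; exact h3)

end CfsgLib.Geo.SubfieldPrime

namespace CfsgLib.Geo.SubfieldPrime

open Module CfsgLib.Geo.PrimeAct CfsgLib.Geo.ImprimPrime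

variable {F : Type*} [Field F] [Finite F] {V : Type*} [AddCommGroup V] [Module F V] [FiniteDimensional F V]
variable {r : ℕ} [Fact r.Prime] {g : V →ₗ[F] V}

/-- A family of independent vectors, spanning `W`, on which the coefficients of `g` are in the subfield. -/
def Rational (F₀ : Subfield F) (g : V →ₗ[F] V) (one : Prop) (W : Submodule F V) : Prop :=
  ∃ (m : ℕ) (v : Fin m → V), LinearIndependent F v ∧ Submodule.span F (Set.range v) = W ∧
    ∀ j, ∃ f : Fin m → F, (∀ y, f y ∈ F₀) ∧ g (v j) = ∑ y, f y • v y ∧ (one → ∀ y, y ≠ j → f y = 0)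

omit [Finite F] [FiniteDimensional F V] in
theorem Rational.glue {F₀ : Subfield F} {one : Prop} {A B : Submodule F V} (hA : Rational F₀ g one A)
    (hB : Rational F₀ g one B) (hAB : Disjoint A B) : Rational F₀ g one (A ⊔ B) := by
  obtain ⟨m, v, hv, rfl, h1⟩ := hA
  obtain ⟨m', v', hv', rfl, h2⟩ := hB
  refine ⟨m + m', Sum.elim v v' ∘ finSumFinEquiv.symm, (hv.sum_type hv' hAB).comp _ finSumFinEquiv.symm.injective,
    by rw [finSumFinEquiv.symm.surjective.range_comp, Set.Sum.elim_range, Submodule.span_union], fun j => ?_⟩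
  obtain ⟨s, rfl⟩ := finSumFinEquiv.surjective j
  rcases s with s | s
  · obtain ⟨f, hf, hfs, hone⟩ := h1 s
    refine ⟨Sum.elim f 0 ∘ finSumFinEquiv.symm, fun y => ?_, ?_, fun h y hy => ?_⟩
    · simp only [Function.comp_apply]
      rcases finSumFinEquiv.symm y with z | z
      exacts [hf z, F₀.zero_mem]
    · simp only [Function.comp_apply, Equiv.symm_apply_apply, Sum.elim_inl, hfs]
      rw [← finSumFinEquiv.sum_comp]
      simp [Fintype.sum_sum_type]
    · obtain ⟨z, rfl⟩ := finSumFinEquiv.surjective y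
      simp only [Function.comp_apply, Equiv.symm_apply_apply]
      rcases z with z | z
      · exact hone h z fun e => hy (by rw [e])
      · rfl
  · obtain ⟨f, hf, hfs, hone⟩ := h2 s
    refine ⟨Sum.elim 0 f ∘ finSumFinEquiv.symm, fun y => ?_, ?_, fun h y hy => ?_⟩
    · simp only [Function.comp_apply]
      rcases finSumFinEquiv.symm y with z | z
      exacts [F₀.zero_mem, hf z]
    · simp only [Function.comp_apply, Equiv.symm_apply_apply, Sum.elim_inr, hfs]
      rw [← finSumFinEquiv.sum_comp]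
      simp [Fintype.sum_sum_type]
    · obtain ⟨z, rfl⟩ := finSumFinEquiv.surjective y
      simp only [Function.comp_apply, Equiv.symm_apply_apply]
      rcases z with z | z
      · rfl
      · exact hone h z fun e => hy (by rw [e])

omit [Finite F] in
theorem rational_fix (F₀ : Subfield F) (one : Prop) {W : Submodule F V} (hW : W ≤ fixSp g) :
    Rational F₀ g one W := by
  classical
  let b := Module.finBasis F W
  refine ⟨_, fun j => (b j : V), b.linearIndependent.map' W.subtype (Submodule.ker_subtype _), ?_, fun j =>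
    ⟨Pi.single j 1, fun y => ?_, ?_, fun _ y hy => Pi.single_eq_of_ne hy _⟩⟩
  · rw [show (fun j => (b j : V)) = W.subtype ∘ b from rfl, Set.range_comp, Submodule.span_image, b.span_eq,
      Submodule.map_top, Submodule.range_subtype]
  · rw [Pi.single_apply]
    split_ifs
    exacts [F₀.one_mem, F₀.zero_mem]
  · rw [mem_fixSp.1 (hW (b j).2)]
    simp [Pi.single_apply]

/-- Rational bases of fixed-point-free invariant subspaces. -/
theorem rational_rest (hg : g ^ r = 1) (hrF : (r : F) ≠ 0) (p : ℕ) [Fact p.Prime] [CharP F p] (hrp : r ≠ p)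
    (F₀ : Subfield F) (hq : (Nat.card ↥F₀ : ZMod r) = (Nat.card F : ZMod r))
    (hi0 : 0 < orderOf (Nat.card F : ZMod r)) :
    ∀ (d : ℕ) {R : Submodule F V}, finrank F R = d → (∀ v ∈ R, g v ∈ R) → R ≤ restSp r g →
      Rational F₀ g (orderOf (Nat.card F : ZMod r) = 1) R := by
  intro d
  induction d using Nat.strong_induction_on with
  | _ d ih =>
  intro R hd hR hRr
  rcases Nat.eq_zero_or_pos d with rfl | hd0
  · rw [Submodule.finrank_eq_zero] at hd
    subst hd
    exact rational_fix F₀ _ bot_le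
  have hdvd := orderOf_dvd_finrank_inf_rest hg hrF R hR
  rw [inf_eq_left.2 hRr, hd] at hdvd
  have hle := Nat.le_of_dvd hd0 hdvd
  obtain ⟨R₁, R₂, h1, h2, hl1, hl2, hsup, hd1, hdR⟩ := exists_rest_piece hg hrF hR hRr (b := 1) (by omega)
  rw [one_mul] at hd1
  have hdec₂ := ih (finrank F R₂) (by omega) rfl h2 (hl2.trans hRr)
  rw [← hsup]
  refine Rational.glue ?_ hdec₂ (disjoint_of_finrank (by rw [hsup, hdR]))
  obtain ⟨w, hwR, hw0⟩ := Submodule.exists_mem_ne_zero_of_ne_bot
    (show R₁ ≠ ⊥ from fun h => by rw [h, finrank_bot] at hd1; omega)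
  set gR := g.restrict h1
  have hgR : gR ^ r = 1 := restrict_pow_eq_one g hg h1
  have hfree : ∀ v, gR v = v → v = 0 := fun v hv =>
    Subtype.ext (free_of_le_rest hrF (hRr (hl1 v.2)) (congrArg Subtype.val hv))
  have hw1 : (⟨w, hwR⟩ : R₁) ≠ 0 := fun h => hw0 (congrArg Subtype.val h)
  have hli := li_powers hgR hfree hw1 _ le_rfl
  haveI : Nonempty (Fin (orderOf (Nat.card F : ZMod r))) := ⟨⟨0, hi0⟩⟩
  set b := basisOfLinearIndependentOfCardEqFinrank hli (by rw [Fintype.card_fin, hd1])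
  have hb : ∀ k, b k = (gR ^ (k : ℕ)) ⟨w, hwR⟩ := fun k => by
    rw [coe_basisOfLinearIndependentOfCardEqFinrank]
  refine ⟨_, fun k => (b k : V), b.linearIndependent.map' R₁.subtype (Submodule.ker_subtype _), ?_, fun j => ?_⟩
  · rw [show (fun k => (b k : V)) = R₁.subtype ∘ b from rfl, Set.range_comp, Submodule.span_image, b.span_eq,
      Submodule.map_top, Submodule.range_subtype]
  have hgb : gR (b j) = (gR ^ ((j : ℕ) + 1)) ⟨w, hwR⟩ := by rw [hb, pow_succ', Module.End.mul_apply]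
  have hlift : g (b j : V) = ((gR (b j) : R₁) : V) := rfl
  by_cases hlast : (j : ℕ) + 1 < orderOf (Nat.card F : ZMod r)
  · refine ⟨Pi.single ⟨_, hlast⟩ 1, fun y => ?_, ?_, fun h => by omega⟩
    · rw [Pi.single_apply]
      split_ifs
      exacts [F₀.one_mem, F₀.zero_mem]
    · rw [hlift, hgb, show (gR ^ ((j : ℕ) + 1)) ⟨w, hwR⟩ = b ⟨_, hlast⟩ from (hb ⟨_, hlast⟩).symm]
      simp [Pi.single_apply]
  · obtain ⟨c, hc⟩ := Submodule.mem_span_range_iff_exists_fun F |>.1
      (b.span_eq.ge (Submodule.mem_top : (gR ^ orderOf (Nat.card F : ZMod r)) ⟨w, hwR⟩ ∈ ⊤))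
    have hmem := coeff_mem hgR hfree p hrp F₀ hq hd1 hw1 c (by simp only [hb] at hc; exact hc.symm)
    refine ⟨c, hmem, ?_, fun h y hy => absurd (Fin.ext (by have := y.2; have := j.2; omega)) hy⟩
    rw [hlift, hgb, show (j : ℕ) + 1 = orderOf (Nat.card F : ZMod r) by have := j.2; omega, ← hc]
    simp

/-- A rational basis of the whole space. -/
theorem exists_rational_basis (hg : g ^ r = 1) (hrF : (r : F) ≠ 0) (p : ℕ) [Fact p.Prime] [CharP F p] (hrp : r ≠ p)
    (F₀ : Subfield F) (hq : (Nat.card ↥F₀ : ZMod r) = (Nat.card F : ZMod r))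
    (hi0 : 0 < orderOf (Nat.card F : ZMod r)) :
    ∃ (m : ℕ) (b : Basis (Fin m) F V), ∀ j, ∃ f : Fin m → F, (∀ y, f y ∈ F₀) ∧ g (b j) = ∑ y, f y • b y ∧
      (orderOf (Nat.card F : ZMod r) = 1 → ∀ y, y ≠ j → f y = 0) := by
  have hsplit := finrank_split hg hrF ⊤ fun _ _ => Submodule.mem_top
  rw [top_inf_eq, top_inf_eq, finrank_top] at hsplit
  have hdim := inf_fix_rest (g := g) hrF (le_refl (restSp r g)) (le_refl (fixSp g))
  have htop : restSp r g ⊔ fixSp g = ⊤ := Submodule.eq_top_of_finrank_eq (by omega)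
  obtain ⟨m, v, hv, hsp, h⟩ := (rational_rest hg hrF p hrp F₀ hq hi0 _ rfl (restSp_invariant hg) le_rfl).glue
    (rational_fix (g := g) F₀ _ le_rfl) (disjoint_of_finrank (by omega))
  refine ⟨m, Basis.mk hv (by rw [hsp, htop]), fun j => ?_⟩
  simp only [Basis.coe_mk]
  exact h j

end CfsgLib.Geo.SubfieldPrime
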