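/-
Elements of prime order conjugate into a subfield group.
-/
import Cfsg.Agent.Lib.Geo.SubfieldPrime.Pieces
import Cfsg.Agent.Lib.Geo.InvolutionSubfield
import Cfsg.Agent.Lib.Known.SemisimpleDet
import Cfsg.Agent.Lib.Geo.PrimeOrderNonPower

set_option autoImplicit false
set_option maxHeartbeats 800000
set_option linter.unusedSectionVars false
set_option linter.style.haveILetI false

namespace CfsgLib.Geo.SubfieldPrime

open Module Matrix CfsgLib.Geo.PrimeAct

variable {F : Type*} [Field F] [Fintype F] {n : ℕ} {r : ℕ} [Fact r.Prime]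

/-- Coefficients in a line over the subfield give conjugation into the subfield group. -/
theorem exists_conj_of_coeffs (F₀ : Subfield F) {ι : Type*} [Fintype ι] (X : GL (Fin n) F)
    (b : Basis ι F (Fin n → F)) {l : F} (hl : l ≠ 0)
    (h : ∀ p, ∃ f : ι → F, (∀ y, f y ∈ F₀) ∧ (X : Matrix (Fin n) (Fin n) F) *ᵥ b p = l • ∑ y, f y • b y) :
    ∃ P : GL (Fin n) F, P⁻¹ * X * P ∈ Cfsg.Geo.subfieldSubgroup F₀ 1 := by
  classical
  let e : Fin n ≃ ι := (finCongr (by
    have := finrank_eq_card_basis b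
    rwa [finrank_pi, Fintype.card_fin] at this)).trans (Fintype.equivFin ι).symm
  obtain ⟨P, hP⟩ := CfsgLib.Geo.InvClass.exists_basis_change (Pi.basisFun F (Fin n)) (b.reindex e.symm)
  refine ⟨P, CfsgLib.Geo.SubfieldMax.mem_subfieldSubgroup_one hl fun i j => ?_⟩
  have hPj : ∀ j, (P : Matrix (Fin n) (Fin n) F) *ᵥ Pi.single j 1 = b (e j) := fun j => by
    have := hP j
    rwa [Pi.basisFun_apply, Basis.reindex_apply, Equiv.symm_symm] at this
  obtain ⟨f, hf, hfx⟩ := h (e j)
  have hPinv : ∀ y, ((P⁻¹ : GL (Fin n) F) : Matrix (Fin n) (Fin n) F) *ᵥ b y = Pi.single (e.symm y) 1 := fun y => by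
    rw [← e.apply_symm_apply y, ← hPj, Matrix.mulVec_mulVec, ← Units.val_mul, inv_mul_cancel, Units.val_one,
      Matrix.one_mulVec, e.symm_apply_apply]
  have hcol : ((P⁻¹ * X * P : GL (Fin n) F) : Matrix (Fin n) (Fin n) F) *ᵥ Pi.single j 1 =
      l • ∑ y, f y • Pi.single (e.symm y) 1 := by
    rw [Units.val_mul, Units.val_mul, ← Matrix.mulVec_mulVec, hPj, ← Matrix.mulVec_mulVec, hfx,
      Matrix.mulVec_smul, Matrix.mulVec_sum]
    simp only [Matrix.mulVec_smul, hPinv]
  have hij := congrFun hcol i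
  rw [Matrix.mulVec_single_one, Matrix.col_apply, Pi.smul_apply, smul_eq_mul] at hij
  rw [hij, mul_div_cancel_left₀ _ hl, Finset.sum_apply]
  refine F₀.sum_mem fun y _ => ?_
  rw [Pi.smul_apply, smul_eq_mul, Pi.single_apply]
  split_ifs <;> simp [hf y, F₀.zero_mem]

/-- From the general linear group to the special one. -/
theorem exists_sl_conj_prime {p : ℕ} [Fact p.Prime] [CharP F p] (hrp : r ≠ p) (hn : 0 < n)
    (x : Matrix.SpecialLinearGroup (Fin n) F) {z : F}
    (hx : ((x ^ r : Matrix.SpecialLinearGroup (Fin n) F) : Matrix (Fin n) (Fin n) F) = z • 1)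
    (H : Subgroup (GL (Fin n) F)) (h : ∃ P : GL (Fin n) F, P⁻¹ * Matrix.SpecialLinearGroup.toGL x * P ∈ H) :
    ∃ P : Matrix.SpecialLinearGroup (Fin n) F, P⁻¹ * x * P ∈ H.comap Matrix.SpecialLinearGroup.toGL := by
  classical
  haveI : Nonempty (Fin n) := ⟨⟨0, hn⟩⟩
  obtain ⟨P, hP⟩ := h
  set X := Matrix.SpecialLinearGroup.toGL x
  have hz : z ≠ 0 := by
    intro h0
    have h1 := congrArg Matrix.det hx
    rw [(x ^ r).2, h0, zero_smul, Matrix.det_zero] at h1
    exact one_ne_zero h1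
  have hX : X ^ (r * (Fintype.card F - 1)) = 1 := Units.ext (by
    rw [pow_mul, Units.val_pow_eq_pow_val, Units.val_one, show ((X ^ r : GL (Fin n) F) : Matrix (Fin n) (Fin n) F) = z • 1 by
      rw [← hx, ← map_pow]; rfl, smul_pow, one_pow, FiniteField.pow_card_sub_one_eq_one z hz, one_smul])
  have hcop : (orderOf X).Coprime p := by
    refine Nat.Coprime.coprime_dvd_left (orderOf_dvd_of_pow_eq_one hX) (Nat.Coprime.mul_left ?_ ?_)
    · exact (Nat.coprime_primes Fact.out Fact.out).2 hrp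
    · obtain ⟨e, -, he⟩ := FiniteField.card F p
      refine Nat.Coprime.symm ((Fact.out : p.Prime).coprime_iff_not_dvd.2 fun hd => ?_)
      have h1 : p ∣ p ^ (e : ℕ) := dvd_pow_self p e.ne_zero
      rw [← he] at h1
      have h2 := Nat.dvd_sub h1 hd
      rw [Nat.sub_sub_self Fintype.card_pos] at h2
      exact (Fact.out : p.Prime).ne_one (Nat.eq_one_of_dvd_one h2)
  obtain ⟨h, hdet, hh⟩ := CfsgLib.Known.SemisimpleDet.exists_conj_det_one (p := p) X P⁻¹ hcop
  let P' : Matrix.SpecialLinearGroup (Fin n) F := ⟨(h : Matrix (Fin n) (Fin n) F), hdet⟩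
  refine ⟨P'⁻¹, ?_⟩
  rw [Subgroup.mem_comap, CfsgLib.Geo.InvClass.toGL_conj, map_inv, inv_inv]
  have hP' : Matrix.SpecialLinearGroup.toGL P' = h := Units.ext rfl
  rw [hP', hh, inv_inv]
  exact hP

theorem scaled_pow_eq_one {V : Type*} [AddCommGroup V] [Module F V] {T : V →ₗ[F] V} {w z : F} (hz : z ≠ 0)
    (hw : w ^ r = z) (hT : T ^ r = z • (1 : V →ₗ[F] V)) : (w⁻¹ • T) ^ r = 1 := by
  rw [smul_pow, hT, smul_smul, inv_pow, hw, inv_mul_cancel₀ hz, one_smul]

theorem power_map (x : Matrix.SpecialLinearGroup (Fin n) F) {z : F}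
    (hx : ((x ^ r : Matrix.SpecialLinearGroup (Fin n) F) : Matrix (Fin n) (Fin n) F) = z • 1) :
    Matrix.toLin' (x : Matrix (Fin n) (Fin n) F) ^ r = z • (1 : (Fin n → F) →ₗ[F] (Fin n → F)) := by
  show (Matrix.toLinAlgEquiv' (x : Matrix (Fin n) (Fin n) F)) ^ r = _
  rw [← map_pow, ← Matrix.SpecialLinearGroup.coe_pow, hx, map_smul, map_one]

/-- A scalar that is no power forces divisibilities. -/
theorem nonpower_data (hn : 0 < n) (hr2 : r ≠ 2) (x : Matrix.SpecialLinearGroup (Fin n) F) {z : F}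
    (hx : ((x ^ r : Matrix.SpecialLinearGroup (Fin n) F) : Matrix (Fin n) (Fin n) F) = z • 1)
    (hnp : ∀ d, d ^ r ≠ z) :
    r ∣ n ∧ z ^ (n / r) = 1 := by
  obtain ⟨h1, h2, -⟩ := CfsgLib.Geo.PrimeAct.nonpower _ z hnp (power_map x hx)
  rw [finrank_pi, Fintype.card_fin] at h1 h2
  refine ⟨h1, ?_⟩
  obtain ⟨l, hl⟩ := (Fact.out : r.Prime).odd_of_ne_two hr2
  rw [LinearMap.det_toLin', x.2, show r + 1 = 2 * (l + 1) by omega, pow_mul (-1 : F), neg_one_sq, one_pow, one_mul]
    at h2
  exact h2.symm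

/-- The case where the degree of the extension is the prime. -/
theorem conj_of_degree_eq {p : ℕ} [Fact p.Prime] [CharP F p] (hrp : r ≠ p) (hr2 : r ≠ 2) (hn : 0 < n)
    (F₀ : Subfield F) (hq : (Nat.card ↥F₀ : ZMod r) = (Nat.card F : ZMod r))
    (hi0 : 0 < orderOf (Nat.card F : ZMod r))
    (hgap : r ∣ Fintype.card F - 1 → padicValNat r n ≤ padicValNat r (Fintype.card F - 1))
    (x : Matrix.SpecialLinearGroup (Fin n) F) {z : F}
    (hx : ((x ^ r : Matrix.SpecialLinearGroup (Fin n) F) : Matrix (Fin n) (Fin n) F) = z • 1) :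
    ∃ P : Matrix.SpecialLinearGroup (Fin n) F, P⁻¹ * x * P ∈
      (Cfsg.Geo.subfieldSubgroup F₀ 1).comap Matrix.SpecialLinearGroup.toGL := by
  classical
  haveI : Nonempty (Fin n) := ⟨⟨0, hn⟩⟩
  refine exists_sl_conj_prime hrp hn x hx _ ?_
  have hz : z ≠ 0 := by
    intro h0
    have h1 := congrArg Matrix.det hx
    rw [(x ^ r).2, h0, zero_smul, Matrix.det_zero] at h1
    exact one_ne_zero h1
  obtain ⟨w, hw⟩ : ∃ w, w ^ r = z := by
    by_contra hnp
    push Not at hnp
    obtain ⟨h1, h2⟩ := nonpower_data hn hr2 x hx hnp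
    by_cases hr1 : r ∣ Fintype.card F - 1
    · have hm : n / r ≠ 0 := (Nat.div_pos (Nat.le_of_dvd hn h1) (Fact.out : r.Prime).pos).ne'
      have hv : padicValNat r (n / r) < padicValNat r (Fintype.card F - 1) := by
        have := hgap hr1
        have h3 := padicValNat.div h1
        have := one_le_padicValNat_of_dvd hn.ne' h1
        omega
      obtain ⟨d, hd⟩ := exists_root_of_pow_eq_one hr1 hm hv h2
      exact hnp d hd
    · have hcop : (Fintype.card F - 1).Coprime r :=
        Nat.Coprime.symm ((Fact.out : r.Prime).coprime_iff_not_dvd.2 hr1)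
      obtain ⟨a, ha⟩ : ∃ a, r * a % (Fintype.card F - 1) = 1 % (Fintype.card F - 1) := by
        haveI : NeZero (Fintype.card F - 1) := ⟨by have := Fintype.one_lt_card (α := F); omega⟩
        refine ⟨((r : ZMod (Fintype.card F - 1))⁻¹).val, (ZMod.natCast_eq_natCast_iff' _ _ _).1 ?_⟩
        rw [Nat.cast_mul, ZMod.natCast_val, ZMod.cast_id, Nat.cast_one]
        exact ZMod.coe_mul_inv_eq_one r hcop.symm
      refine hnp (z ^ a) ?_
      have hz1 : z ^ (Fintype.card F - 1) = 1 := FiniteField.pow_card_sub_one_eq_one z hz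
      rw [← pow_mul, mul_comm, pow_eq_pow_mod _ hz1, ha, ← pow_eq_pow_mod _ hz1, pow_one]
  have hw0 : w ≠ 0 := fun h => by rw [h, zero_pow (Fact.out : r.Prime).ne_zero] at hw; exact hz hw.symm
  obtain ⟨m, b, hb⟩ := exists_rational_basis (scaled_pow_eq_one hz hw (power_map x hx))
    (natCast_ne_zero_of_ringChar (p := p) Fact.out hrp) p hrp F₀ hq hi0
  refine exists_conj_of_coeffs F₀ _ b hw0 fun j => ?_
  obtain ⟨f, hf, hfx, -⟩ := hb j
  refine ⟨f, hf, ?_⟩
  show (x : Matrix (Fin n) (Fin n) F) *ᵥ b j = _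
  rw [← hfx, LinearMap.smul_apply, smul_smul, mul_inv_cancel₀ hw0, one_smul, Matrix.toLin'_apply]

theorem sym5 (c0 c1 c2 c3 c4 : ℕ) (h : c0 + c1 + c2 + c3 + c4 = 5) (h2 : (c1 + 2 * c2 + 3 * c3 + 4 * c4) % 5 = 0) :
    (c1 = c4 ∧ c2 = c3) ∨ (c0 = c2 ∧ c3 = c4) ∨ (c0 = c4 ∧ c1 = c3) ∨ (c0 = c1 ∧ c2 = c4) ∨ (c0 = c3 ∧ c1 = c2) := by
  obtain rfl : c4 = 5 - c0 - c1 - c2 - c3 := by omega
  have b0 : c0 ≤ 5 := by omega
  have b1 : c1 ≤ 5 := by omega
  have b2 : c2 ≤ 5 := by omega
  have b3 : c3 ≤ 5 := by omega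
  interval_cases c0 <;> interval_cases c1 <;> interval_cases c2 <;> interval_cases c3 <;> omega

/-- Zero-sum sequences of length three or five modulo their length are symmetric. -/
theorem exists_center {r : ℕ} (h35 : r = 3 ∨ r = 5) (a : Fin r → ZMod r) (ha : ∑ l, a l = 0) :
    ∃ s : ZMod r, ∀ y, (Finset.univ.filter fun l => a l = y).card =
      (Finset.univ.filter fun l => a l = s + s - y).card := by
  classical
  rcases h35 with rfl | rfl
  · revert ha a
    decide
  · obtain ⟨c, hc⟩ : ∃ c : ZMod 5 → ℕ, ∀ y, c y = (Finset.univ.filter fun l => a l = y).card := ⟨_, fun _ => rfl⟩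
    simp only [← hc]
    have h1 : ∑ y, c y = 5 := by
      simp only [hc]
      rw [← Finset.card_eq_sum_card_fiberwise fun l _ => Finset.mem_univ (a l), Finset.card_univ, Fintype.card_fin]
    have h2 : ((∑ y, c y * y.val : ℕ) : ZMod 5) = 0 := by
      rw [← ha, ← Finset.sum_fiberwise Finset.univ a a, Nat.cast_sum]
      refine Finset.sum_congr rfl fun y _ => ?_
      rw [Finset.sum_congr rfl fun l hl => (Finset.mem_filter.1 hl).2, Finset.sum_const, nsmul_eq_mul, hc,
        Nat.cast_mul, ZMod.natCast_zmod_val]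
    rw [ZMod.natCast_eq_zero_iff] at h2
    have e : ∀ f : ZMod 5 → ℕ, ∑ y, f y = f 0 + f 1 + f 2 + f 3 + f 4 := fun f => Fin.sum_univ_five f
    rw [e] at h1 h2
    have v1 : (1 : ZMod 5).val = 1 := rfl
    have v2 : (2 : ZMod 5).val = 2 := rfl
    have v3 : (3 : ZMod 5).val = 3 := rfl
    have v4 : (4 : ZMod 5).val = 4 := rfl
    rw [ZMod.val_zero, v1, v2, v3, v4] at h2
    rcases sym5 (c 0) (c 1) (c 2) (c 3) (c 4) h1 (by omega) with h | h | h | h | h
    · refine ⟨0, fun y => ?_⟩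
      fin_cases y
      exacts [rfl, h.1, h.2, h.2.symm, h.1.symm]
    · refine ⟨1, fun y => ?_⟩
      fin_cases y
      exacts [h.1, rfl, h.1.symm, h.2, h.2.symm]
    · refine ⟨2, fun y => ?_⟩
      fin_cases y
      exacts [h.1, h.2, rfl, h.2.symm, h.1.symm]
    · refine ⟨3, fun y => ?_⟩
      fin_cases y
      exacts [h.1, h.1.symm, h.2, rfl, h.2.symm]
    · refine ⟨4, fun y => ?_⟩
      fin_cases y
      exacts [h.1, h.2, h.2.symm, h.1.symm, rfl]

/-- Pairing the eigenvectors of inverse eigenvalues gives a rational basis. -/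
theorem exists_conj_of_symmetric {ι : Type*} [Fintype ι] [DecidableEq ι] [NeZero r] (hr2 : r ≠ 2) (F₀ : Subfield F)
    (X : GL (Fin n) F) (b : Basis ι F (Fin n → F)) {l ζ : F} (hl : l ≠ 0) (hζ : orderOf ζ = r)
    (hneg : ∀ y : ZMod r, (ζ ^ y.val) + (ζ ^ (-y).val) ∈ F₀) (a : ι → ZMod r)
    (hb : ∀ i, (X : Matrix (Fin n) (Fin n) F) *ᵥ b i = (l * ζ ^ (a i).val) • b i)
    (hsym : ∀ y, (Finset.univ.filter fun i => a i = y).card = (Finset.univ.filter fun i => a i = -y).card) :
    ∃ P : GL (Fin n) F, P⁻¹ * X * P ∈ Cfsg.Geo.subfieldSubgroup F₀ 1 := by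
  classical
  have hr0 := (Fact.out : r.Prime).pos
  let σ : Equiv.Perm ι := Equiv.ofFiberEquiv (f := a) (g := fun i => -a i) fun y => Fintype.equivOfCardEq (by
    rw [Fintype.card_subtype, Fintype.card_subtype, hsym y]
    exact congrArg Finset.card (Finset.filter_congr fun i _ => by rw [neg_eq_iff_eq_neg]))
  have hσ : ∀ i, a (σ i) = -a i := fun i => by
    have h : -a (σ i) = a i := Equiv.ofFiberEquiv_map (f := a) (g := fun i => -a i) _ i
    rw [← h, neg_neg]
  have hσ' : ∀ i, a (σ.symm i) = -a i := fun i => by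
    have h := hσ (σ.symm i)
    rw [σ.apply_symm_apply] at h
    rw [h, neg_neg]
  have hnegv : ∀ y : ZMod r, y ≠ 0 → y.val + (-y).val = r := fun y hy => by
    rw [ZMod.neg_val, if_neg hy]
    have := ZMod.val_lt y
    omega
  have hne : ∀ y : ZMod r, y ≠ 0 → 2 * y.val ≠ r := fun y hy h => by
    obtain ⟨c, hc⟩ := (Fact.out : r.Prime).odd_of_ne_two hr2
    omega
  let pos : ι → Prop := fun i => 2 * (a i).val < r ∧ a i ≠ 0
  let u : ι → Fin n → F := fun i => b i + b (σ i)
  let gu : ι → Fin n → F := fun i => ζ ^ (a i).val • b i + ζ ^ (-a i).val • b (σ i)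
  let w : ι → Fin n → F := fun i => if a i = 0 then b i else if pos i then u i else gu (σ.symm i)
  have hpos' : ∀ i, pos i → ¬ pos (σ i) ∧ a (σ i) ≠ 0 := fun i hi => by
    refine ⟨fun h => ?_, by rw [hσ]; exact neg_ne_zero.2 hi.2⟩
    have h1 := h.1
    rw [hσ] at h1
    have := hnegv _ hi.2
    have := hi.1
    omega
  have hw_pos : ∀ i, pos i → w i = u i ∧ w (σ i) = gu i := fun i hi =>
    ⟨by simp [w, hi, hi.2], by simp [w, (hpos' i hi).1, (hpos' i hi).2]⟩
  have hone : ζ ^ r = 1 := by rw [← hζ, pow_orderOf_eq_one]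
  have hne' : ∀ i, pos i → ζ ^ (a i).val ≠ ζ ^ (-a i).val := fun i hi h => by
    have hz0 : ζ ≠ 0 := fun h => by rw [h, zero_pow hr0.ne'] at hone; exact zero_ne_one hone
    have h1 := ZMod.val_lt (a i)
    have h2 := ZMod.val_lt (-a i)
    have h3 := pow_injOn_Iio_orderOf (x := ζ) (by rw [hζ]; exact h1) (by rw [hζ]; exact h2) h
    have := hnegv _ hi.2
    exact hne _ hi.2 (by omega)
  have hmem : ∀ i, pos i → b i ∈ Submodule.span F (Set.range w) ∧ b (σ i) ∈ Submodule.span F (Set.range w) := by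
    intro i hi
    have h1 : u i ∈ Submodule.span F (Set.range w) := Submodule.subset_span ⟨i, (hw_pos i hi).1⟩
    have h2 : gu i ∈ Submodule.span F (Set.range w) := Submodule.subset_span ⟨σ i, (hw_pos i hi).2⟩
    have hd := sub_ne_zero.2 (hne' i hi)
    have e1 : (ζ ^ (a i).val - ζ ^ (-a i).val) • b i = gu i - ζ ^ (-a i).val • u i := by
      simp only [gu, u, smul_add, sub_smul]; abel
    have hbi : b i ∈ Submodule.span F (Set.range w) := (Submodule.smul_mem_iff _ hd).1 (by
      rw [e1]; exact Submodule.sub_mem _ h2 (Submodule.smul_mem _ _ h1))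
    refine ⟨hbi, ?_⟩
    have := Submodule.sub_mem _ h1 hbi
    simpa [u] using this
  have hspan : ⊤ ≤ Submodule.span F (Set.range w) := by
    rw [← b.span_eq, Submodule.span_le]
    rintro _ ⟨i, rfl⟩
    by_cases h0 : a i = 0
    · exact Submodule.subset_span ⟨i, by simp [w, h0]⟩
    by_cases hp : pos i
    · exact (hmem i hp).1
    · have hp' : pos (σ.symm i) := by
        refine ⟨?_, by rw [hσ']; exact neg_ne_zero.2 h0⟩
        rw [hσ']
        have := hnegv _ h0
        have := hne _ h0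
        have h5 : ¬ (2 * (a i).val < r) := fun h => hp ⟨h, h0⟩
        omega
      have := (hmem _ hp').2
      rwa [σ.apply_symm_apply] at this
  let bw := basisOfTopLeSpanOfCardEqFinrank w hspan (finrank_eq_card_basis b).symm
  refine exists_conj_of_coeffs F₀ X bw hl fun i => ?_
  simp only [bw, coe_basisOfTopLeSpanOfCardEqFinrank]
  have hXu : ∀ i, (X : Matrix (Fin n) (Fin n) F) *ᵥ u i = l • gu i := fun i => by
    simp only [u, gu, Matrix.mulVec_add, hb, hσ, smul_add, smul_smul]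
  by_cases h0 : a i = 0
  · refine ⟨Pi.single i 1, fun y => ?_, ?_⟩
    · rw [Pi.single_apply]
      split_ifs
      exacts [F₀.one_mem, F₀.zero_mem]
    · rw [Finset.sum_eq_single i (fun y _ hy => by simp [hy]) (by simp), Pi.single_eq_same, one_smul,
        show w i = b i from if_pos h0, hb, h0, ZMod.val_zero, pow_zero, mul_one]
  by_cases hp : pos i
  · refine ⟨Pi.single (σ i) 1, fun y => ?_, ?_⟩
    · rw [Pi.single_apply]
      split_ifs
      exacts [F₀.one_mem, F₀.zero_mem]
    · rw [(hw_pos i hp).1, hXu, ← (hw_pos i hp).2]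
      simp [Pi.single_apply]
  · have hp' : pos (σ.symm i) := by
      refine ⟨?_, by rw [hσ']; exact neg_ne_zero.2 h0⟩
      rw [hσ']
      have := hnegv _ h0
      have := hne _ h0
      have h5 : ¬ (2 * (a i).val < r) := fun h => hp ⟨h, h0⟩
      omega
    obtain ⟨j, rfl⟩ : ∃ j, i = σ j := ⟨σ.symm i, (σ.apply_symm_apply i).symm⟩
    rw [σ.symm_apply_apply] at hp'
    set T := ζ ^ (a j).val + ζ ^ (-a j).val
    refine ⟨fun y => (if y = σ j then T else 0) - (if y = j then 1 else 0), fun y => ?_, ?_⟩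
    · refine F₀.sub_mem ?_ ?_
      · split_ifs
        exacts [hneg _, F₀.zero_mem]
      · split_ifs
        exacts [F₀.one_mem, F₀.zero_mem]
    · simp only [sub_smul, ite_smul, zero_smul, one_smul, Finset.sum_sub_distrib, Finset.sum_ite_eq', Finset.mem_univ,
        if_true]
      rw [(hw_pos j hp').1, (hw_pos j hp').2]
      simp only [gu, u, Matrix.mulVec_add, Matrix.mulVec_smul, hb, hσ, smul_add, smul_smul, smul_sub]
      have e2 : ζ ^ (a j).val * ζ ^ (-a j).val = 1 := by rw [← pow_add, hnegv _ hp'.2, hone]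
      rw [show ζ ^ (a j).val * (l * ζ ^ (a j).val) = l * (T * ζ ^ (a j).val) - l by
          simp only [T]; linear_combination (-l) * e2,
        show ζ ^ (-a j).val * (l * ζ ^ (-a j).val) = l * (T * ζ ^ (-a j).val) - l by
          simp only [T]; linear_combination (-l) * e2]
      simp only [sub_smul]
      abel

/-- Dimension three or five equal to the prime, quadratic extension. -/
theorem conj_of_dim_eq {p : ℕ} [Fact p.Prime] [CharP F p] (hrp : r ≠ p) (hrn : r = n) (h35 : n = 3 ∨ n = 5)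
    (F₀ : Subfield F) {q₀ : ℕ} (hF₀ : Nat.card ↥F₀ = q₀) (hcard : Fintype.card F = q₀ ^ 2)
    (hv : padicValNat r (q₀ + 1) = 1) (x : Matrix.SpecialLinearGroup (Fin n) F) {z : F}
    (hx : ((x ^ r : Matrix.SpecialLinearGroup (Fin n) F) : Matrix (Fin n) (Fin n) F) = z • 1) :
    ∃ P : Matrix.SpecialLinearGroup (Fin n) F, P⁻¹ * x * P ∈
      (Cfsg.Geo.subfieldSubgroup F₀ 1).comap Matrix.SpecialLinearGroup.toGL := by
  classical
  subst hrn
  haveI : NeZero r := ⟨(Fact.out : r.Prime).ne_zero⟩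
  have hr2 : r ≠ 2 := by omega
  have hn : 0 < r := by omega
  haveI : Nonempty (Fin r) := ⟨⟨0, hn⟩⟩
  refine exists_sl_conj_prime hrp hn x hx _ ?_
  have hz : z ≠ 0 := by
    intro h0
    have h1 := congrArg Matrix.det hx
    rw [(x ^ r).2, h0, zero_smul, Matrix.det_zero] at h1
    exact one_ne_zero h1
  obtain ⟨w, hw⟩ : ∃ w, w ^ r = z := by
    by_contra hnp
    push Not at hnp
    obtain ⟨-, h2⟩ := nonpower_data hn hr2 x hx hnp
    rw [Nat.div_self hn, pow_one] at h2
    exact hnp 1 (by rw [one_pow, h2])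
  have hw0 : w ≠ 0 := fun h => by rw [h, zero_pow hn.ne'] at hw; exact hz hw.symm
  have hq1 : 1 < q₀ := by rw [← hF₀]; exact Finite.one_lt_card
  have hdvd : r ∣ q₀ + 1 := dvd_of_one_le_padicValNat (by omega)
  have hfac : Fintype.card F - 1 = (q₀ + 1) * (q₀ - 1) := by rw [hcard, ← Nat.sq_sub_sq, one_pow]
  have hr1 : r ∣ Fintype.card F - 1 := hfac ▸ hdvd.mul_right _
  have hq : (Nat.card F : ZMod r) = 1 := by
    rw [← ZMod.natCast_eq_zero_iff, Nat.cast_sub Fintype.card_pos, Nat.cast_one, sub_eq_zero] at hr1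
    rw [Nat.card_eq_fintype_card]; exact hr1
  have hord : orderOf (Nat.card F : ZMod r) = 1 := by rw [hq, orderOf_one]
  obtain ⟨m, b, hb⟩ := exists_rational_basis (scaled_pow_eq_one hz hw (power_map x hx))
    (natCast_ne_zero_of_ringChar (p := p) Fact.out hrp) p hrp (⊤ : Subfield F)
    (by rw [Nat.card_congr (Subfield.topEquiv (K := F)).toEquiv]) (by rw [hord]; exact Nat.one_pos)
  choose f hf hfx hdiag using hb
  set d : Fin m → F := fun j => f j j
  have heig : ∀ j, Matrix.toLin' (x : Matrix (Fin r) (Fin r) F) (b j) = (w * d j) • b j := fun j => by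
    have h := hfx j
    rw [Finset.sum_eq_single j (fun y _ hy => by rw [hdiag j hord y hy, zero_smul]) (by simp), LinearMap.smul_apply,
      inv_smul_eq_iff₀ hw0, smul_smul] at h
    exact h
  have hdr : ∀ j, d j ^ r = 1 := fun j => by
    have hp : ∀ k : ℕ, ((w⁻¹ • Matrix.toLin' (x : Matrix (Fin r) (Fin r) F)) ^ k) (b j) = d j ^ k • b j := fun k => by
      induction k with
      | zero => simp
      | succ k ih =>
        rw [pow_succ', Module.End.mul_apply, ih, map_smul, LinearMap.smul_apply, heig, smul_smul, smul_smul, pow_succ]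
        congr 1
        field_simp
    have h := hp r
    rw [scaled_pow_eq_one hz hw (power_map x hx), Module.End.one_apply] at h
    exact (smul_left_injective F (b.ne_zero j) (by simpa using h)).symm
  have hm : m = r := by
    have := finrank_eq_card_basis b
    rw [finrank_pi, Fintype.card_fin, Fintype.card_fin] at this
    omega
  subst hm
  have hdet : w ^ m * ∏ j, d j = 1 := by
    have h := LinearMap.det_toMatrix b (Matrix.toLin' (x : Matrix (Fin m) (Fin m) F))
    rw [LinearMap.det_toLin', x.2, show LinearMap.toMatrix b b (Matrix.toLin' (x : Matrix (Fin m) (Fin m) F)) =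
        Matrix.diagonal fun j => w * d j from ?_, Matrix.det_diagonal, Finset.prod_mul_distrib, Finset.prod_const,
        Finset.card_univ, Fintype.card_fin] at h
    · exact h
    ext i j
    rw [LinearMap.toMatrix_apply, heig, map_smul, Basis.repr_self, Finsupp.smul_single, smul_eq_mul, mul_one,
      Finsupp.single_apply, Matrix.diagonal_apply]
    by_cases hij : j = i
    · subst hij; simp
    · rw [if_neg hij, if_neg (Ne.symm hij)]
  have hwm : w ^ m = 1 := by
    have h1 : w ^ (m * m) = 1 := by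
      have := congrArg (· ^ m) hdet
      rw [mul_pow, ← Finset.prod_pow, Finset.prod_eq_one fun j _ => hdr j, mul_one, one_pow, ← pow_mul] at this
      exact this
    have h2 := FiniteField.pow_card_sub_one_eq_one w hw0
    have hq0ne : ¬ m ∣ q₀ - 1 := fun h => by
      have := Nat.dvd_sub hdvd h
      rw [show q₀ + 1 - (q₀ - 1) = 2 by omega] at this
      have := Nat.le_of_dvd two_pos this
      omega
    have hval : padicValNat m (Fintype.card F - 1) = 1 := by
      rw [hfac, padicValNat.mul (by omega) (by omega), hv, padicValNat.eq_zero_of_not_dvd hq0ne]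
    have hgcd : orderOf w ∣ Nat.gcd (m ^ 2) (Fintype.card F - 1) :=
      Nat.dvd_gcd (by rw [pow_two]; exact orderOf_dvd_of_pow_eq_one h1) (orderOf_dvd_of_pow_eq_one h2)
    obtain ⟨e, he2, he⟩ := (Nat.dvd_prime_pow (Fact.out : m.Prime)).1 (hgcd.trans (Nat.gcd_dvd_left _ _))
    have : e ≤ 1 := by
      rw [← hval]
      exact (padicValNat_dvd_iff_le (by have := Fintype.one_lt_card (α := F); omega)).1
        (he ▸ hgcd.trans (Nat.gcd_dvd_right _ _))
    refine orderOf_dvd_iff_pow_eq_one.1 (he.symm ▸ ?_)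
    exact (pow_dvd_pow m this).trans (by rw [pow_one])
  rw [hwm, one_mul] at hdet
  obtain ⟨ζu, hζu⟩ := exists_prime_orderOf_dvd_card' m (G := Fˣ) (by rw [Nat.card_units, Nat.card_eq_fintype_card]; exact hr1)
  set ζ : F := (ζu : F) with hζdef
  have hζ : orderOf ζ = m := by rw [hζdef, orderOf_units, hζu]
  have hζm : ζ ^ m = 1 := by rw [← hζ, pow_orderOf_eq_one]
  have hroot : ∀ j, ∃ a : ZMod m, ζ ^ a.val = d j := fun j => by
    haveI : NeZero (orderOf ζ) := ⟨by rw [hζ]; exact (Fact.out : m.Prime).ne_zero⟩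
    obtain ⟨i, hi, hid⟩ := ((IsPrimitiveRoot.orderOf ζ).eq_pow_of_pow_eq_one (by rw [hζ]; exact hdr j))
    exact ⟨(i : ZMod m), by rw [ZMod.val_natCast, ← pow_eq_pow_mod _ hζm, hid]⟩
  choose a ha using hroot
  have hcast : ∀ y z : ZMod m, ζ ^ (y + z).val = ζ ^ y.val * ζ ^ z.val := fun y z => by
    rw [ZMod.val_add, ← pow_eq_pow_mod _ hζm, pow_add]
  have hsum : ∑ j, a j = 0 := by
    have h : ζ ^ (∑ j, a j).val = 1 := by
      rw [← hdet]
      refine Eq.trans ?_ (Finset.prod_congr rfl fun j _ => ha j)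
      generalize (Finset.univ : Finset (Fin m)) = S
      induction S using Finset.induction with
      | empty => simp
      | insert i S hi ih => rw [Finset.sum_insert hi, Finset.prod_insert hi, hcast, ih]
    have h2 := orderOf_dvd_of_pow_eq_one h
    rw [hζ] at h2
    exact (ZMod.val_eq_zero _).1 (Nat.eq_zero_of_dvd_of_lt h2 (ZMod.val_lt _))
  obtain ⟨s, hs⟩ := exists_center h35 a hsum
  refine exists_conj_of_symmetric (r := m) hr2 F₀ _ b (l := w * ζ ^ s.val)
    (mul_ne_zero hw0 (pow_ne_zero _ ζu.ne_zero)) hζ (fun y => ?_) (fun j => a j - s) (fun j => ?_) fun y => ?_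
  · refine CfsgLib.Classical.Dickson.mem_subfield_iff_pow.2 ?_
    rw [hF₀]
    obtain ⟨e, -, he⟩ := FiniteField.card F p
    haveI : CharP F₀ p := (F₀.subtype).charP Subtype.val_injective p
    haveI : Fintype F₀ := Fintype.ofFinite _
    obtain ⟨e₀, -, he₀⟩ := FiniteField.card F₀ p
    have hp0 : q₀ = p ^ (e₀ : ℕ) := by rw [← hF₀, Nat.card_eq_fintype_card, he₀]
    rw [hp0, add_pow_char_pow, ← hp0]
    have hswap : ∀ v : ZMod m, (ζ ^ v.val) ^ q₀ = ζ ^ (-v).val := fun v => by
      rw [← pow_mul, pow_eq_pow_mod _ hζm]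
      congr 1
      have hq0 : (q₀ : ZMod m) = -1 := by
        rw [← ZMod.natCast_eq_zero_iff, Nat.cast_add, Nat.cast_one] at hdvd
        exact eq_neg_of_add_eq_zero_left hdvd
      rw [← ZMod.val_natCast, Nat.cast_mul, ZMod.natCast_zmod_val, hq0, mul_neg, mul_one]
    rw [hswap, hswap, neg_neg, add_comm]
  · show (x : Matrix (Fin m) (Fin m) F) *ᵥ b j = _
    rw [← Matrix.toLin'_apply, heig, ← ha, mul_assoc, ← hcast, add_sub_cancel]
  · have e1 : ∀ y, (Finset.univ.filter fun j => a j - s = y) = Finset.univ.filter fun j => a j = y + s := fun y =>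
      Finset.filter_congr fun j _ => sub_eq_iff_eq_add
    simp only [e1]
    rw [hs (y + s)]
    congr 2
    funext j
    rw [show s + s - (y + s) = -y + s by ring]

end CfsgLib.Geo.SubfieldPrime
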