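/-
Diagonal elements that are not conjugate into a subfield group, and the criterion.
-/
import Cfsg.Agent.Lib.Geo.SubfieldPrime.Derange
import Cfsg.Agent.Lib.Geo.SubfieldPrime.Arith
import Cfsg.Agent.Lib.Geo.SubfieldPrime.Positive

set_option autoImplicit false
set_option maxHeartbeats 800000
set_option linter.unusedSectionVars false
set_option linter.style.haveILetI false

namespace CfsgLib.Geo.SubfieldPrime

open Module Matrix CfsgLib.Geo.PrimeAct

variable {F : Type*} [Field F] [Fintype F] {n : ℕ} {r : ℕ} [Fact r.Prime]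

theorem pow_sum_val {ζ : F} (hζ : ζ ^ r = 1) {ι : Type*} (S : Finset ι) (a : ι → ZMod r) :
    ∏ i ∈ S, ζ ^ (a i).val = ζ ^ (∑ i ∈ S, a i).val := by
  classical
  haveI : NeZero r := ⟨(Fact.out : r.Prime).ne_zero⟩
  induction S using Finset.induction with
  | empty => simp
  | insert i S hi ih => rw [Finset.prod_insert hi, Finset.sum_insert hi, ih, ZMod.val_add, ← pow_eq_pow_mod _ hζ, pow_add]

/-- The diagonal element with prescribed exponents. -/
theorem exists_derangement_diag (F₀ : Subfield F) {p q₀ : ℕ} [Fact p.Prime] [CharP F p] (hF₀ : Nat.card ↥F₀ = q₀)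
    (hr : (q₀ : ZMod r) ≠ 1) (hq₀ : (q₀ : ZMod r) ≠ 0) {w ζ : F} (hw : w ≠ 0) (hζ : orderOf ζ = r)
    (L : List (ZMod r)) (hL : L.length = n) (hdet : w ^ n * ζ ^ L.sum.val = 1)
    (hne : ∃ y z, y ∈ L ∧ z ∈ L ∧ y ≠ z)
    (hno : ∀ u : ZMod r, ∃ y, L.count ((q₀ : ZMod r) * (y - u) + u) ≠ L.count y) :
    ∃ x : Matrix.SpecialLinearGroup (Fin n) F,
      (∃ z : F, ((x ^ r : Matrix.SpecialLinearGroup (Fin n) F) : Matrix (Fin n) (Fin n) F) = z • 1) ∧
      (∀ z : F, (x : Matrix (Fin n) (Fin n) F) ≠ z • 1) ∧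
      ∀ P : Matrix.SpecialLinearGroup (Fin n) F,
        P⁻¹ * x * P ∉ (Cfsg.Geo.subfieldSubgroup F₀ 1).comap Matrix.SpecialLinearGroup.toGL := by
  classical
  subst hL
  haveI : NeZero r := ⟨(Fact.out : r.Prime).ne_zero⟩
  have hζr : ζ ^ r = 1 := by rw [← hζ, pow_orderOf_eq_one]
  set a : Fin L.length → ZMod r := fun i => L.get i with ha
  have hsum : ∑ i, a i = L.sum := by rw [← List.sum_ofFn, ha, List.ofFn_get]
  have hcount : ∀ y, (Finset.univ.filter fun i => a i = y).card = L.count y := fun y => by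
    have h1 : Multiset.count y (Multiset.map a Finset.univ.val) = L.count y := by
      rw [Fin.univ_val_map, Multiset.coe_count, ha, List.ofFn_get]
    rw [← h1, Multiset.count_map, Finset.card_def, Finset.filter_val]
    congr 1
    exact Multiset.filter_congr fun i _ => eq_comm
  let x : Matrix.SpecialLinearGroup (Fin L.length) F := ⟨Matrix.diagonal fun i => w * ζ ^ (a i).val, by
    rw [Matrix.det_diagonal, Finset.prod_mul_distrib, Finset.prod_const, Finset.card_univ, Fintype.card_fin,
      pow_sum_val hζr, hsum, hdet]⟩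
  refine ⟨x, ⟨w ^ r, ?_⟩, fun z hz => ?_, fun P hP => ?_⟩
  · rw [Matrix.SpecialLinearGroup.coe_pow]
    show (Matrix.diagonal fun i => w * ζ ^ (a i).val) ^ r = _
    rw [Matrix.diagonal_pow, Matrix.smul_one_eq_diagonal]
    congr 1
    funext i
    rw [Pi.pow_apply, mul_pow, ← pow_mul, mul_comm (a i).val, pow_mul, hζr, one_pow, mul_one]
  · obtain ⟨y, y', hy, hy', hne⟩ := hne
    obtain ⟨i, rfl⟩ := List.get_of_mem hy
    obtain ⟨i', rfl⟩ := List.get_of_mem hy'
    change Matrix.diagonal (fun i => w * ζ ^ (a i).val) = z • 1 at hz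
    rw [Matrix.smul_one_eq_diagonal] at hz
    have h1 := congrFun (Matrix.diagonal_injective hz)
    have h2 := mul_left_cancel₀ hw ((h1 i).trans (h1 i').symm)
    exact hne (ZMod.val_injective r (pow_injOn_Iio_orderOf (x := ζ) (by rw [hζ]; exact ZMod.val_lt _)
      (by rw [hζ]; exact ZMod.val_lt _) h2))
  · have hn : 0 < L.length := by
      obtain ⟨y, -, hy, -, -⟩ := hne
      exact List.length_pos_of_mem hy
    obtain ⟨u, hu⟩ := exists_affine_symm (p := p) F₀ hF₀ hr hq₀ hn hw hζ a x rfl P hP
    obtain ⟨y, hy⟩ := hno u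
    exact hy (by rw [← hcount, ← hcount, hu])

theorem natCast_ne_zero_of_small {m : ℕ} (hm : 0 < m) (h : ∀ l, l.Prime → l ∣ m → r ≠ l) : (m : ZMod r) ≠ 0 :=
  fun h0 => h r Fact.out ((ZMod.natCast_eq_zero_iff _ _).1 h0) rfl

theorem three_other : ∀ x : ZMod 3, x ≠ 1 → x ≠ 0 → x = 2 := by decide

theorem three_elems : ∀ x : ZMod 3, x = 0 ∨ x = 1 ∨ x = 2 := by decide

theorem no_center_three {h : ZMod r} (hr2 : r ≠ 2) (h1 : h ≠ 1) (h0 : h ≠ 0) {m : ℕ} (hm : m ≠ 2 ∨ r = 3)
    (hex : ¬ (r = 3 ∧ (m = 0 ∨ m = 3))) (u : ZMod r) :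
    ∃ y, (List.replicate m 0 ++ [1, 1, -2] : List (ZMod r)).count (h * (y - u) + u) ≠
      (List.replicate m 0 ++ [1, 1, -2] : List (ZMod r)).count y := by
  classical
  have hC : ∀ y : ZMod r, (List.replicate m (0 : ZMod r) ++ [1, 1, -2]).count y =
      (if (0 : ZMod r) = y then m else 0) + (if (1 : ZMod r) = y then 2 else 0) + (if (-2 : ZMod r) = y then 1 else 0) := by
    intro y
    simp only [List.count_append, List.count_replicate, List.count_cons, List.count_nil, beq_iff_eq]
    split_ifs <;> omega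
  have two : (2 : ZMod r) ≠ 0 := by
    have := natCast_ne_zero_of_small (r := r) (m := 2) two_pos fun l hl hd e => hr2 (e.trans ((Nat.prime_dvd_prime_iff_eq hl Nat.prime_two).1 hd))
    exact_mod_cast this
  by_contra! hall
  simp only [hC] at hall
  have hh : h - 1 ≠ 0 := sub_ne_zero.2 h1
  have fixp : ∀ v : ZMod r, h * (v - u) + u = v → u = v := fun v hv => by
    rcases mul_eq_zero.1 (show (h - 1) * (v - u) = 0 by linear_combination hv) with e | e
    · exact absurd e hh
    · exact (sub_eq_zero.1 e).symm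
  by_cases hr3 : r = 3
  · subst hr3
    have hh2 : h = 2 := three_other h h1 h0
    have e21 : (-2 : ZMod 3) = 1 := rfl
    have hm' : m ≠ 0 ∧ m ≠ 3 := ⟨fun e => hex ⟨rfl, Or.inl e⟩, fun e => hex ⟨rfl, Or.inr e⟩⟩
    have e := hall 0
    have e' := hall 1
    rw [e21, hh2] at e e'
    rcases three_elems u with rfl | rfl | rfl
    · change 0 + 0 + 0 = 0 + 2 + 1 at e'
      omega
    · change 0 + 0 + 0 = m + 0 + 0 at e
      omega
    · change 0 + 2 + 1 = m + 0 + 0 at e
      omega
  have three : (3 : ZMod r) ≠ 0 := by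
    have := natCast_ne_zero_of_small (r := r) (m := 3) three_pos fun l hl hd e => hr3 (e.trans ((Nat.prime_dvd_prime_iff_eq hl Nat.prime_three).1 hd))
    exact_mod_cast this
  have d01 : (0 : ZMod r) ≠ 1 := zero_ne_one
  have d02 : (0 : ZMod r) ≠ -2 := fun e => two (by linear_combination e)
  have d12 : (1 : ZMod r) ≠ -2 := fun e => three (by linear_combination e)
  have key : ∀ v, ∀ y, h * (y - u) + u = v →
      (if (0 : ZMod r) = v then m else 0) + (if (1 : ZMod r) = v then 2 else 0) + (if (-2 : ZMod r) = v then 1 else 0) =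
        (if (0 : ZMod r) = y then m else 0) + (if (1 : ZMod r) = y then 2 else 0) + (if (-2 : ZMod r) = y then 1 else 0) :=
    fun v y e => e ▸ hall y
  have mne : m ≠ 2 := hm.resolve_right hr3
  by_cases hm3 : 3 ≤ m
  · have e := key _ 0 rfl
    simp only [if_true, if_neg d01.symm, if_neg d02.symm, add_zero] at e
    have hv : h * (0 - u) + u = 0 := by
      by_contra hv
      rw [if_neg (Ne.symm hv)] at e
      split_ifs at e <;> first | omega | exact d12 (‹(1 : ZMod r) = _›.trans ‹(-2 : ZMod r) = _›.symm)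
    obtain rfl := fixp 0 hv
    have e' := key _ 1 rfl
    simp only [sub_zero, mul_one, add_zero, if_neg d01, if_true, if_neg d12.symm, zero_add] at e'
    have hv' : h = 1 := by
      by_contra hv'
      rw [if_neg (Ne.symm hv')] at e'
      split_ifs at e' <;> omega
    exact h1 hv'
  · have e := key _ 1 rfl
    simp only [if_neg d01, if_true, if_neg d12.symm, add_zero, zero_add] at e
    have hv : h * (1 - u) + u = 1 := by
      by_contra hv
      rw [if_neg (Ne.symm hv)] at e
      split_ifs at e with c1 c2 <;> first | omega | exact d02 (c1.trans c2.symm)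
    obtain rfl := fixp 1 hv
    have e2 := key _ (-2) rfl
    simp only [if_neg d02, if_neg d12, if_true, zero_add] at e2
    rcases Nat.eq_zero_or_pos m with rfl | hm0
    · have hv2 : h * (-2 - 1) + 1 = -2 := by
        by_contra hv2
        rw [if_neg (Ne.symm hv2)] at e2
        split_ifs at e2 <;> omega
      exact three (by have := mul_eq_zero.1 (show (h - 1) * 3 = 0 by linear_combination (-1 : ZMod r) * hv2)
                      exact this.resolve_left hh)
    obtain rfl : m = 1 := by omega
    have e0 := key _ 0 rfl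
    simp only [if_true, if_neg d01.symm, if_neg d02.symm, add_zero] at e0
    have h3 : h = 3 := by
      by_contra h3
      rw [if_neg fun c : (0 : ZMod r) = h * (0 - 1) + 1 => h1 (by linear_combination c),
        if_neg fun c : (-2 : ZMod r) = h * (0 - 1) + 1 => h3 (by linear_combination c)] at e0
      split_ifs at e0 <;> omega
    subst h3
    have c0 : (0 : ZMod r) ≠ 3 * (-2 - 1) + 1 := fun c => two (by
      rcases mul_eq_zero.1 (show (2 : ZMod r) * (2 * 2) = 0 by linear_combination c) with e | e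
      · exact e
      · exact (mul_eq_zero.1 e).elim id id)
    have c2 : (-2 : ZMod r) ≠ 3 * (-2 - 1) + 1 := fun c => by
      rcases mul_eq_zero.1 (show (2 : ZMod r) * 3 = 0 by linear_combination c) with e | e
      exacts [two e, three e]
    rw [if_neg c0, if_neg c2] at e2
    split_ifs at e2
    all_goals omega

theorem no_center_five {h : ZMod r} (hr2 : r ≠ 2) (hr3 : r ≠ 3) (hr5 : r ≠ 5) (h1 : h ≠ 1) (u : ZMod r) :
    if h = -1 then ∃ y, ([0, 0, 1, 2, -3] : List (ZMod r)).count (h * (y - u) + u) ≠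
        ([0, 0, 1, 2, -3] : List (ZMod r)).count y
      else ∃ y, ([0, 0, 0, 1, -1] : List (ZMod r)).count (h * (y - u) + u) ≠
        ([0, 0, 0, 1, -1] : List (ZMod r)).count y := by
  classical
  have nz : ∀ m : ℕ, 0 < m → (∀ l, l.Prime → l ∣ m → l = 2 ∨ l = 3 ∨ l = 5) → (m : ZMod r) ≠ 0 := fun m hm hl =>
    natCast_ne_zero_of_small hm fun l hlp hd e => by
      rcases hl l hlp hd with rfl | rfl | rfl
      exacts [hr2 e, hr3 e, hr5 e]
  have p2 : ∀ l, l.Prime → l ∣ 2 → l = 2 ∨ l = 3 ∨ l = 5 := fun l hl hd =>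
    Or.inl ((Nat.prime_dvd_prime_iff_eq hl Nat.prime_two).1 hd)
  have two : (2 : ZMod r) ≠ 0 := by exact_mod_cast nz 2 two_pos p2
  have three : (3 : ZMod r) ≠ 0 := by
    exact_mod_cast nz 3 three_pos fun l hl hd => Or.inr (Or.inl ((Nat.prime_dvd_prime_iff_eq hl Nat.prime_three).1 hd))
  have five : (5 : ZMod r) ≠ 0 := by
    exact_mod_cast nz 5 (by norm_num) fun l hl hd => Or.inr (Or.inr ((Nat.prime_dvd_prime_iff_eq hl Nat.prime_five).1 hd))
  have hh : h - 1 ≠ 0 := sub_ne_zero.2 h1
  split_ifs with hneg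
  · subst hneg
    by_contra! hall
    have a1 : (1 : ZMod r) ≠ 0 := one_ne_zero
    have a3 : (-3 : ZMod r) ≠ 0 := neg_ne_zero.2 three
    have b12 : (1 : ZMod r) ≠ 2 := fun e => a1 (by linear_combination -e)
    have b13 : (1 : ZMod r) ≠ -3 := fun e => two (by
      rcases mul_eq_zero.1 (show (2 : ZMod r) * 2 = 0 by linear_combination e) with e | e <;> exact e)
    have b23 : (2 : ZMod r) ≠ -3 := fun e => five (by linear_combination e)
    have hC : ∀ y : ZMod r, ([0, 0, 1, 2, -3] : List (ZMod r)).count y =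
        (if 0 = y then 2 else 0) + (if 1 = y then 1 else 0) + (if 2 = y then 1 else 0) + (if -3 = y then 1 else 0) := by
      intro y
      simp only [List.count_cons, List.count_nil, beq_iff_eq]
      split_ifs <;> omega
    simp only [hC] at hall
    have e := hall 0
    simp only [if_true, if_neg a1, if_neg two, if_neg a3, add_zero] at e
    have hv : -1 * (0 - u) + u = 0 := by
      by_contra hv
      rw [if_neg (Ne.symm hv)] at e
      split_ifs at e
      all_goals first
        | omega
        | exact b12 (‹(1 : ZMod r) = _›.trans ‹(2 : ZMod r) = _›.symm)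
        | exact b13 (‹(1 : ZMod r) = _›.trans ‹(-3 : ZMod r) = _›.symm)
        | exact b23 (‹(2 : ZMod r) = _›.trans ‹(-3 : ZMod r) = _›.symm)
    obtain rfl : u = 0 := (mul_eq_zero.1 (show (2 : ZMod r) * u = 0 by linear_combination hv)).resolve_left two
    have e1 := hall 1
    simp only [if_true, if_neg a1.symm, if_neg b12.symm, if_neg b13.symm, add_zero, zero_add, sub_zero, mul_one] at e1
    rw [if_neg fun c : (0 : ZMod r) = -1 => a1 (by linear_combination c),
      if_neg fun c : (1 : ZMod r) = -1 => two (by linear_combination c),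
      if_neg fun c : (2 : ZMod r) = -1 => three (by linear_combination c),
      if_neg fun c : (-3 : ZMod r) = -1 => two (by linear_combination -c)] at e1
    omega
  · by_contra! hall
    have a1 : (1 : ZMod r) ≠ 0 := one_ne_zero
    have am : (-1 : ZMod r) ≠ 0 := neg_ne_zero.2 a1
    have bm : (1 : ZMod r) ≠ -1 := fun e => two (by linear_combination e)
    have hC : ∀ y : ZMod r, ([0, 0, 0, 1, -1] : List (ZMod r)).count y =
        (if 0 = y then 3 else 0) + (if 1 = y then 1 else 0) + (if -1 = y then 1 else 0) := by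
      intro y
      simp only [List.count_cons, List.count_nil, beq_iff_eq]
      split_ifs <;> omega
    simp only [hC] at hall
    have e := hall 0
    simp only [if_true, if_neg a1, if_neg am, add_zero] at e
    have hv : h * (0 - u) + u = 0 := by
      by_contra hv
      rw [if_neg (Ne.symm hv)] at e
      split_ifs at e <;> omega
    obtain rfl : u = 0 := (mul_eq_zero.1 (show (h - 1) * u = 0 by linear_combination -hv)).resolve_left hh
    have e1 := hall 1
    simp only [if_true, if_neg a1.symm, if_neg bm.symm, add_zero, zero_add, sub_zero, mul_one] at e1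
    rw [if_neg (Ne.symm h1), if_neg (Ne.symm hneg)] at e1
    split_ifs at e1 with c0
    · omega
    · omega

/-- The eigenvalue field is the base field: some diagonal element is a derangement. -/
theorem exists_derangement_split (F₀ : Subfield F) {p k q₀ : ℕ} [Fact p.Prime] [CharP F p] (hrp : r ≠ p) (hr2 : r ≠ 2)
    (hk : k.Prime) (hF₀ : Nat.card ↥F₀ = q₀) (hcard : Fintype.card F = q₀ ^ k) (hord : orderOf (q₀ : ZMod r) = k)
    (hn : 2 ≤ n) (hn2 : ¬ (n = 2 ∧ k = 2)) (hgap : ¬ (n = 6 ∧ r = 3))
    (hexc : ¬ (k = 2 ∧ r = n ∧ (n = 3 ∨ n = 5) ∧ padicValNat r (q₀ + 1) = 1)) :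
    ∃ x : Matrix.SpecialLinearGroup (Fin n) F,
      (∃ z : F, ((x ^ r : Matrix.SpecialLinearGroup (Fin n) F) : Matrix (Fin n) (Fin n) F) = z • 1) ∧
      (∀ z : F, (x : Matrix (Fin n) (Fin n) F) ≠ z • 1) ∧
      ∀ P : Matrix.SpecialLinearGroup (Fin n) F,
        P⁻¹ * x * P ∉ (Cfsg.Geo.subfieldSubgroup F₀ 1).comap Matrix.SpecialLinearGroup.toGL := by
  classical
  haveI : NeZero r := ⟨(Fact.out : r.Prime).ne_zero⟩
  set h : ZMod r := (q₀ : ZMod r) with hh
  have h1 : h ≠ 1 := fun e => by rw [e, orderOf_one] at hord; exact hk.ne_one hord.symm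
  have h0 : h ≠ 0 := fun e => by rw [e, orderOf_zero] at hord; exact hk.ne_zero hord.symm
  have hr1 : r ∣ Fintype.card F - 1 := by
    rw [← ZMod.natCast_eq_zero_iff, Nat.cast_sub Fintype.card_pos, hcard, Nat.cast_pow, Nat.cast_one, ← hh, ← hord,
      pow_orderOf_eq_one, sub_self]
  obtain ⟨ζu, hζu⟩ :=
    exists_prime_orderOf_dvd_card' r (G := Fˣ) (by rw [Nat.card_units, Nat.card_eq_fintype_card]; exact hr1)
  have hζ : orderOf (ζu : F) = r := by rw [orderOf_units, hζu]
  have hk2 : k = 2 → h = -1 := fun e => by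
    subst e
    have := pow_orderOf_eq_one h
    rw [hord, pow_two] at this
    exact (mul_self_eq_one_iff.1 this).resolve_left h1
  have hkr : k ∣ r - 1 := hord ▸ ZMod.orderOf_dvd_card_sub_one h0
  have hneg : k ≠ 2 → h ≠ -1 := fun hk' e => hk' ((Nat.prime_dvd_prime_iff_eq hk Nat.prime_two).1
    (hord ▸ orderOf_dvd_of_pow_eq_one (by rw [e, neg_one_sq])))
  have mk : ∀ L : List (ZMod r), L.length = n → L.sum = 0 → (∃ y z, y ∈ L ∧ z ∈ L ∧ y ≠ z) →
      (∀ u : ZMod r, ∃ y, L.count (h * (y - u) + u) ≠ L.count y) →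
      ∃ x : Matrix.SpecialLinearGroup (Fin n) F,
        (∃ z : F, ((x ^ r : Matrix.SpecialLinearGroup (Fin n) F) : Matrix (Fin n) (Fin n) F) = z • 1) ∧
        (∀ z : F, (x : Matrix (Fin n) (Fin n) F) ≠ z • 1) ∧
        ∀ P : Matrix.SpecialLinearGroup (Fin n) F,
          P⁻¹ * x * P ∉ (Cfsg.Geo.subfieldSubgroup F₀ 1).comap Matrix.SpecialLinearGroup.toGL :=
    fun L hL hs hne hno => exists_derangement_diag (p := p) F₀ hF₀ h1 h0 one_ne_zero hζ L hL
      (by rw [one_pow, one_mul, hs, ZMod.val_zero, pow_zero]) hne hno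
  by_cases hD : k = 2 ∧ r = n ∧ (n = 3 ∨ n = 5)
  · obtain ⟨rfl, rfl, h35⟩ := hD
    have hdvd : r ∣ q₀ + 1 := by
      rw [← ZMod.natCast_eq_zero_iff, Nat.cast_add, Nat.cast_one, ← hh, hk2 rfl, neg_add_cancel]
    have hv : 2 ≤ padicValNat r (q₀ + 1) := by
      have := one_le_padicValNat_of_dvd (by omega) hdvd
      have : padicValNat r (q₀ + 1) ≠ 1 := fun e => hexc ⟨rfl, rfl, h35, e⟩
      omega
    have hsq : r ^ 2 ∣ Fintype.card F - 1 := by
      refine (((padicValNat_dvd_iff_le (by omega)).2 hv).trans ?_)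
      rw [hcard, ← one_pow 2, Nat.sq_sub_sq]
      exact dvd_mul_right _ _
    obtain ⟨g, hg, -⟩ := CfsgLib.Geo.PrimeAct.exists_generator (F := F)
    obtain ⟨s, hs⟩ := hsq
    set wu := g ^ s
    have hwu : orderOf wu = r ^ 2 := by
      have hq := Fintype.one_lt_card (α := F)
      have hs0 : s ≠ 0 := fun e => by rw [e, mul_zero] at hs; omega
      rw [orderOf_pow' g hs0, hg, hs, Nat.gcd_eq_right (dvd_mul_left s _), Nat.mul_div_cancel _ (Nat.pos_of_ne_zero hs0)]
    set w : F := (wu : F)
    have hw : orderOf w = r ^ 2 := by rw [orderOf_units, hwu]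
    have hζ' : orderOf (w ^ r) = r := by
      rw [orderOf_pow' w (Fact.out : r.Prime).ne_zero, hw, Nat.gcd_eq_right (dvd_pow_self r two_ne_zero), pow_two,
        Nat.mul_div_cancel _ (Fact.out : r.Prime).pos]
    refine exists_derangement_diag (p := p) F₀ hF₀ h1 h0 wu.ne_zero hζ' (List.replicate (r - 1) 0 ++ [-1])
      (by simp; omega) ?_ ⟨0, -1, by simp; omega, by simp, fun e => one_ne_zero (α := ZMod r) (by linear_combination e)⟩
      fun u => ?_
    · rw [List.sum_append, List.sum_replicate, smul_zero, zero_add, List.sum_singleton]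
      show w ^ r * (w ^ r) ^ (-1 : ZMod r).val = 1
      rw [← pow_succ', ZMod.neg_val, if_neg (one_ne_zero (α := ZMod r)), ZMod.val_one_eq_one_mod,
        Nat.mod_eq_of_lt (Fact.out : r.Prime).one_lt, Nat.sub_add_cancel (Fact.out : r.Prime).one_le, ← pow_mul,
        ← pow_two, ← hw, pow_orderOf_eq_one]
    rw [show (q₀ : ZMod r) = -1 from hk2 rfl]
    rw [hk2 rfl] at h1
    by_contra! hall
    have hC : ∀ y : ZMod r, (List.replicate (r - 1) (0 : ZMod r) ++ [-1]).count y =
        (if 0 = y then r - 1 else 0) + (if -1 = y then 1 else 0) := by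
      intro y
      simp only [List.count_append, List.count_replicate, List.count_cons, List.count_nil, beq_iff_eq]
      split_ifs <;> omega
    simp only [hC] at hall
    have am : (-1 : ZMod r) ≠ 0 := neg_ne_zero.2 one_ne_zero
    have e := hall 0
    simp only [if_true, if_neg am, add_zero] at e
    have two : (2 : ZMod r) ≠ 0 := fun e => h1 (by linear_combination -e)
    have hv0 : -1 * (0 - u) + u = 0 := by
      by_contra hv0
      rw [if_neg (Ne.symm hv0)] at e
      split_ifs at e <;> omega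
    obtain rfl : u = 0 := (mul_eq_zero.1 (show (2 : ZMod r) * u = 0 by linear_combination hv0)).resolve_left two
    have e1 := hall (-1)
    simp only [if_true, if_neg (Ne.symm am), sub_zero, add_zero, zero_add] at e1
    rw [if_neg fun c : (0 : ZMod r) = -1 * -1 => one_ne_zero (α := ZMod r) (by linear_combination -c),
      if_neg fun c : (-1 : ZMod r) = -1 * -1 => h1 (by linear_combination c)] at e1
    omega
  have hr3k : r = 3 → k = 2 := fun e => by
    rw [e] at hkr
    exact (Nat.prime_dvd_prime_iff_eq hk Nat.prime_two).1 hkr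
  by_cases h2 : n = 2
  · subst h2
    have hk' : k ≠ 2 := fun e => hn2 ⟨rfl, e⟩
    have two : (2 : ZMod r) ≠ 0 := by
      have := natCast_ne_zero_of_small (r := r) (m := 2) two_pos fun l hl hd e =>
        hr2 (e.trans ((Nat.prime_dvd_prime_iff_eq hl Nat.prime_two).1 hd))
      exact_mod_cast this
    have bm : (1 : ZMod r) ≠ -1 := fun e => two (by linear_combination e)
    refine mk [1, -1] rfl (by simp) ⟨1, -1, by simp, by simp, bm⟩ fun u => ?_
    by_contra! hall
    have hC : ∀ y : ZMod r, ([1, -1] : List (ZMod r)).count y =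
        (if 1 = y then 1 else 0) + (if -1 = y then 1 else 0) := by
      intro y
      simp only [List.count_cons, List.count_nil, beq_iff_eq]
      split_ifs <;> omega
    simp only [hC] at hall
    have key : ∀ y : ZMod r, y = 1 ∨ y = -1 → h * (y - u) + u = 1 ∨ h * (y - u) + u = -1 := fun y hy => by
      by_contra hc
      push Not at hc
      have e := hall y
      rw [if_neg hc.1.symm, if_neg hc.2.symm] at e
      rcases hy with rfl | rfl
      · rw [if_pos rfl] at e; omega
      · rw [if_neg bm, if_pos rfl] at e; omega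
    have hne' : h * (1 - u) + u ≠ h * (-1 - u) + u := fun e => bm
      (by have := mul_left_cancel₀ h0 (add_right_cancel e); exact sub_left_inj.1 this)
    have hs : (h * (1 - u) + u) + (h * (-1 - u) + u) = 0 := by
      rcases key 1 (Or.inl rfl) with a | a <;> rcases key (-1) (Or.inr rfl) with b | b
      · exact absurd (a.trans b.symm) hne'
      · rw [a, b, add_neg_cancel]
      · rw [a, b, neg_add_cancel]
      · exact absurd (a.trans b.symm) hne'
    obtain rfl : u = 0 := by
      rcases mul_eq_zero.1 (show (1 - h) * ((2 : ZMod r) * u) = 0 by linear_combination hs) with e | e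
      · exact absurd (sub_eq_zero.1 e).symm h1
      · exact (mul_eq_zero.1 e).resolve_left two
    rcases key 1 (Or.inl rfl) with a | a
    · exact h1 (by linear_combination a)
    · exact hneg hk' (by linear_combination a)
  by_cases h5 : n = 5 ∧ r ≠ 3
  · obtain ⟨rfl, hr3⟩ := h5
    have hr5 : r ≠ 5 := fun e => by
      subst e
      have h4 : k ∣ 4 := hkr
      have : k ≤ 4 := Nat.le_of_dvd (by norm_num) h4
      have := hk.two_le
      interval_cases k
      · exact hD ⟨rfl, rfl, Or.inr rfl⟩
      · norm_num at h4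
      · exact absurd hk (by norm_num)
    by_cases hm : h = -1
    · refine mk [0, 0, 1, 2, -3] rfl ?_ ⟨0, 1, by simp, by simp, zero_ne_one⟩ fun u => ?_
      · simp only [List.sum_cons, List.sum_nil]; ring
      · have := no_center_five hr2 hr3 hr5 h1 u
        rwa [if_pos hm] at this
    · refine mk [0, 0, 0, 1, -1] rfl ?_ ⟨0, 1, by simp, by simp, zero_ne_one⟩ fun u => ?_
      · simp only [List.sum_cons, List.sum_nil]; ring
      · have := no_center_five hr2 hr3 hr5 h1 u
        rwa [if_neg hm] at this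
  obtain ⟨m, rfl⟩ : ∃ m, n = m + 3 := ⟨n - 3, by omega⟩
  have hex : ¬ (r = 3 ∧ (m = 0 ∨ m = 3)) := by
    rintro ⟨e, rfl | rfl⟩
    · exact hD ⟨hr3k e, by omega, Or.inl rfl⟩
    · exact hgap ⟨rfl, e⟩
  refine mk (List.replicate m 0 ++ [1, 1, -2]) (by simp) ?_ ?_ fun u => no_center_three hr2 h1 h0 (by omega) hex u
  · simp only [List.sum_append, List.sum_replicate, smul_zero, zero_add, List.sum_cons, List.sum_nil]; ring
  · by_cases hm0 : m = 0
    · refine ⟨1, -2, by simp, by simp, fun e => ?_⟩
      have h3 : ((3 : ℕ) : ZMod r) = 0 := by push_cast; linear_combination e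
      exact hex ⟨(Nat.prime_dvd_prime_iff_eq Fact.out Nat.prime_three).1 ((ZMod.natCast_eq_zero_iff _ _).1 h3),
        Or.inl hm0⟩
    · exact ⟨0, 1, by simp [hm0], by simp, zero_ne_one⟩

end CfsgLib.Geo.SubfieldPrime
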